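import Mathlib

/-!
Inequalities for counting maximal fixing elementary subgroups.
-/

set_option autoImplicit false

namespace Cfsg.Agent.DerIdx

open Finset

theorem oddProd_bound {p u : ℕ} (hp : 3 ≤ p) (hu : p + 1 ≤ u) : ∀ i : ℕ,
    ((∏ l ∈ range (i + 1), (p ^ (l + 1) + 1)) * u) ^ 2 ≤ p ^ 2 * u ^ p ^ (i + 1)
  | 0 => by
    have h1 : u ^ 2 * u ≤ u ^ p := by
      rw [← pow_succ]; exact Nat.pow_le_pow_right (by omega) (by omega)
    have h2 : (p + 1) ^ 2 ≤ p ^ 2 * u := by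
      nlinarith
    simp only [zero_add, prod_range_one, pow_one]
    calc ((p + 1) * u) ^ 2 = (p + 1) ^ 2 * u ^ 2 := mul_pow _ _ _
      _ ≤ p ^ 2 * u * u ^ 2 := Nat.mul_le_mul_right _ h2
      _ = p ^ 2 * (u ^ 2 * u) := by ring
      _ ≤ p ^ 2 * u ^ p := Nat.mul_le_mul_left _ h1
  | i + 1 => by
    have ih := oddProd_bound hp hu i
    rw [prod_range_succ]
    set L := ∏ l ∈ range (i + 1), (p ^ (l + 1) + 1)
    set M := u ^ p ^ (i + 1) with hM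
    have h1 : p ^ (i + 2) + 1 ≤ M := by
      have a : p ^ (i + 2) < (p + 1) ^ (i + 2) := Nat.pow_lt_pow_left (by omega) (by omega)
      have b : (p + 1) ^ (i + 2) ≤ u ^ (i + 2) := Nat.pow_le_pow_left hu _
      have c : u ^ (i + 2) ≤ M := Nat.pow_le_pow_right (by omega)
        (Nat.lt_pow_self (n := i + 1) (by omega : 1 < p))
      omega
    have h2 : M * M ^ 2 ≤ u ^ p ^ (i + 1 + 1) := by
      rw [hM, ← pow_mul, ← pow_add, pow_succ p (i + 1)]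
      exact Nat.pow_le_pow_right (by omega) (by nlinarith [Nat.one_le_pow (i + 1) p (by omega)])
    calc (L * (p ^ (i + 1 + 1) + 1) * u) ^ 2 = (L * u) ^ 2 * (p ^ (i + 2) + 1) ^ 2 := by ring
      _ ≤ (p ^ 2 * M) * M ^ 2 := Nat.mul_le_mul ih (Nat.pow_le_pow_left h1 2)
      _ = p ^ 2 * (M * M ^ 2) := by ring
      _ ≤ p ^ 2 * u ^ p ^ (i + 1 + 1) := Nat.mul_le_mul_left _ h2

theorem odd_final {p u k j n : ℕ} (hp : 3 ≤ p) (hu : p + 1 ≤ u) (hj : 1 ≤ j)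
    (hn : u ^ p ^ j ≤ n) (hk : k * p ≤ (∏ l ∈ range j, (p ^ (l + 1) + 1)) * (u - 1)) :
    (k + 1) ^ 2 ≤ n := by
  obtain ⟨i, rfl⟩ : ∃ i, j = i + 1 := ⟨j - 1, by omega⟩
  have hb := oddProd_bound hp hu i
  set L := ∏ l ∈ range (i + 1), (p ^ (l + 1) + 1) with hL
  have hLp : p ≤ L := by
    rw [hL, prod_range_succ']
    have : 1 ≤ ∏ l ∈ range i, (p ^ (l + 1 + 1) + 1) :=
      Finset.one_le_prod' fun _ _ => Nat.le_add_left 1 _
    calc p ≤ 1 * (p ^ (0 + 1) + 1) := by simp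
      _ ≤ _ := Nat.mul_le_mul_right _ this
  have h1 : (k + 1) * p ≤ L * u := by
    obtain ⟨v, rfl⟩ : ∃ v, u = v + 1 := ⟨u - 1, by omega⟩
    simp only [Nat.add_sub_cancel] at hk
    nlinarith
  have h2 : p ^ 2 * (k + 1) ^ 2 ≤ p ^ 2 * n :=
    calc p ^ 2 * (k + 1) ^ 2 = ((k + 1) * p) ^ 2 := by ring
      _ ≤ (L * u) ^ 2 := Nat.pow_le_pow_left h1 2
      _ ≤ p ^ 2 * u ^ p ^ (i + 1) := hb
      _ ≤ p ^ 2 * n := Nat.mul_le_mul_left _ hn
  exact Nat.le_of_mul_le_mul_left h2 (pow_pos (by omega) 2)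

theorem twoProd_bound {c u : ℕ} (hc : 1 ≤ c) (hu : 2 * c + 1 ≤ u) : ∀ i : ℕ,
    (∏ l ∈ range (i + 1), (c * 2 ^ l + 1)) * (u - 1) + 2 * c ≤ 2 * c * u ^ 2 ^ i
  | 0 => by
    obtain ⟨v, rfl⟩ : ∃ v, u = v + 1 := ⟨u - 1, by omega⟩
    simp only [zero_add, prod_range_one, pow_zero, mul_one, pow_one, Nat.add_sub_cancel]
    nlinarith
  | i + 1 => by
    have ih := twoProd_bound hc hu i
    rw [prod_range_succ]
    set L := ∏ l ∈ range (i + 1), (c * 2 ^ l + 1)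
    set M := u ^ 2 ^ i with hM
    have h1 : c * 2 ^ (i + 1) + 1 ≤ M := by
      obtain ⟨e, he⟩ : ∃ e, 2 ^ i = e + 1 := ⟨2 ^ i - 1, by have := Nat.one_le_two_pow (n := i); omega⟩
      have hei : i ≤ e := by have := i.lt_two_pow_self; omega
      have a0 : 2 ^ i ≤ u ^ e := (Nat.pow_le_pow_left (by omega : 2 ≤ u) i).trans
          (Nat.pow_le_pow_right (by omega) hei)
      have a : u * 2 ^ i ≤ M := by
        calc u * 2 ^ i ≤ u * u ^ e := Nat.mul_le_mul_left _ a0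
          _ = M := by rw [hM, he, pow_succ]; ring
      have b : (2 * c + 1) * 2 ^ i ≤ u * 2 ^ i := Nat.mul_le_mul_right _ hu
      have := Nat.one_le_two_pow (n := i)
      calc c * 2 ^ (i + 1) + 1 ≤ (2 * c + 1) * 2 ^ i := by rw [pow_succ]; nlinarith
        _ ≤ M := b.trans a
    have h2 : u ^ 2 ^ (i + 1) = M * M := by rw [hM, pow_succ 2 i, mul_two, pow_add]
    rw [h2]
    calc L * (c * 2 ^ (i + 1) + 1) * (u - 1) + 2 * c
        ≤ (c * 2 ^ (i + 1) + 1) * (L * (u - 1) + 2 * c) := by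
          have : 1 ≤ c * 2 ^ (i + 1) + 1 := Nat.le_add_left 1 _
          nlinarith
      _ ≤ M * (2 * c * M) := Nat.mul_le_mul h1 ih
      _ = 2 * c * (M * M) := by ring

theorem two_final {c u k j n : ℕ} (hc : 1 ≤ c) (hu : 2 * c + 1 ≤ u) (hj : 1 ≤ j)
    (hn : u ^ 2 ^ j ≤ n) (hk : k * (2 * c) ≤ (∏ l ∈ range j, (c * 2 ^ l + 1)) * (u - 1)) :
    (k + 1) ^ 2 ≤ n := by
  obtain ⟨i, rfl⟩ : ∃ i, j = i + 1 := ⟨j - 1, by omega⟩
  have hb := twoProd_bound hc hu i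
  have h1 : k + 1 ≤ u ^ 2 ^ i := by
    have hpos : 0 < 2 * c := by omega
    refine Nat.le_of_mul_le_mul_left ?_ hpos
    rw [mul_add, mul_one, mul_comm (2 * c) k]
    exact le_trans (Nat.add_le_add_right hk _) hb
  refine le_trans (Nat.pow_le_pow_left h1 2) ?_
  rw [← pow_mul, ← pow_succ]
  exact hn

end Cfsg.Agent.DerIdx
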