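import Cfsg.Agent.Char.PermChar
import Cfsg.Agent.Char.Kernel
import Cfsg.Agent.Char.Linear
import Cfsg.Agent.CharInd.Basic

/-!
# Characters of a transitive group with a regular self-centralising abelian subgroup

If the action is not doubly transitive and `l` is the index of the regular subgroup in its
normaliser, then the degree `n` satisfies `n - 1 ≤ l * (l - 1)`, with equality only for `l ≤ 3`.
-/

set_option autoImplicit false
set_option linter.unusedSectionVars false
set_option linter.style.haveILetI false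

noncomputable section

open scoped ComplexConjugate BigOperators
open Finset

namespace Cfsg.Agent.DerIdx

namespace CharPart

variable {T X : Type*} [Group T] [MulAction T X] {R : Subgroup T} {a : X}

/-- The hypotheses on the regular subgroup. -/
structure Cfg (R : Subgroup T) (a : X) : Prop where
  comm : ∀ r s : R, r * s = s * r
  reg : Function.Bijective (fun r : R => (r : T) • a)
  cc : ∀ x ∈ R, x ≠ 1 → Subgroup.centralizer ({x} : Set T) ≤ R

/-- The normaliser of `R`. -/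
abbrev NR (R : Subgroup T) : Subgroup T := Subgroup.normalizer (R : Set T)

/-- Conjugation by the inverse of an element of the normaliser. -/
def cnj (g : NR R) : R →* R where
  toFun r := ⟨(g : T)⁻¹ * r * g, by
    have h := (Subgroup.mem_normalizer_iff.1 (inv_mem g.2) (r : T)).1 r.2
    simpa using h⟩
  map_one' := Subtype.ext (by simp)
  map_mul' r s := Subtype.ext (by simp [mul_assoc])

@[simp] theorem cnj_val (g : NR R) (r : R) : ((cnj g r : R) : T) = (g : T)⁻¹ * r * g := rfl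

theorem cnj_bij (g : NR R) : Function.Bijective (cnj g) :=
  Function.bijective_iff_has_inverse.2 ⟨cnj g⁻¹, fun r => Subtype.ext (by simp [mul_assoc]),
    fun r => Subtype.ext (by simp [mul_assoc])⟩

theorem Cfg.mem_normalizer (h : Cfg R a) {g t : T} (ht : t ∈ R) (ht1 : t ≠ 1)
    (hc : g * t * g⁻¹ ∈ R) : g ∈ NR R := by
  have hne : g * t * g⁻¹ ≠ 1 := by simpa using ht1
  have hcomm : ∀ {u v : T}, u ∈ R → v ∈ R → u * v = v * u := fun hu hv =>
    congrArg Subtype.val (h.comm ⟨_, hu⟩ ⟨_, hv⟩)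
  rw [NR, Subgroup.mem_normalizer_iff]
  refine fun u => ⟨fun hu => ?_, fun hu => ?_⟩
  · refine h.cc _ hc hne (Subgroup.mem_centralizer_singleton_iff.2 ?_)
    calc g * u * g⁻¹ * (g * t * g⁻¹) = g * (u * t) * g⁻¹ := by group
      _ = g * (t * u) * g⁻¹ := by rw [hcomm hu ht]
      _ = _ := by group
  · refine h.cc t ht ht1 (Subgroup.mem_centralizer_singleton_iff.2 ?_)
    have e := hcomm hu hc
    calc u * t = g⁻¹ * (g * u * g⁻¹ * (g * t * g⁻¹)) * g := by group
      _ = g⁻¹ * (g * t * g⁻¹ * (g * u * g⁻¹)) * g := by rw [e]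
      _ = _ := by group

theorem Cfg.card_eq (h : Cfg R a) : Nat.card R = Nat.card X := Nat.card_eq_of_bijective _ h.reg

variable [Finite T]

/-- The action of the normaliser on the characters of `R`. -/
@[implicit_reducible]
def irrAction (R : Subgroup T) : MulAction (NR R) (IrrCharacter R) where
  smul g θ := ⟨(θ : R → ℂ) ∘ cnj g, Char.isIrrCharacter_comp θ.2 _ (cnj_bij g).2⟩
  one_smul θ := Subtype.ext (funext fun r =>
    congrArg (θ : R → ℂ) (Subtype.ext (by simp)))
  mul_smul g k θ := Subtype.ext (funext fun r =>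
    congrArg (θ : R → ℂ) (Subtype.ext (by simp [mul_assoc])))

attribute [local instance] irrAction

theorem smul_apply' (g : NR R) (θ : IrrCharacter R) (r : R) :
    ((g • θ : IrrCharacter R) : R → ℂ) r = (θ : R → ℂ) (cnj g r) := rfl

theorem Cfg.smul_eq_iff (h : Cfg R a) {θ : IrrCharacter R} (hθ : θ ≠ Char.trivialIrr R)
    (g : NR R) : g • θ = θ ↔ (g : T) ∈ R := by
  constructor
  · intro he
    by_contra hg
    obtain ⟨f, hf⟩ := Char.irr_exists_monoidHom_of_comm h.comm θ.2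
    have hinj : Function.Injective fun r : R => r⁻¹ * cnj g r := by
      intro r s hrs
      by_contra hne
      have e : ((r : T))⁻¹ * ((g : T)⁻¹ * r * g) = (s : T)⁻¹ * ((g : T)⁻¹ * s * g) :=
        congrArg Subtype.val hrs
      have hmem := h.cc _ (mul_mem r.2 (inv_mem s.2))
        (fun h1 => hne (Subtype.ext (mul_inv_eq_one.1 h1)))
        (Subgroup.mem_centralizer_singleton_iff.2 (?_ : (g : T)⁻¹ * ((r : T) * (s : T)⁻¹) = _))
      · exact hg (by simpa using inv_mem hmem)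
      · calc (g : T)⁻¹ * ((r : T) * (s : T)⁻¹)
            = (r : T) * ((r : T)⁻¹ * ((g : T)⁻¹ * r * g)) * (g : T)⁻¹ * (s : T)⁻¹ := by group
          _ = (r : T) * ((s : T)⁻¹ * ((g : T)⁻¹ * s * g)) * (g : T)⁻¹ * (s : T)⁻¹ := by rw [e]
          _ = _ := by group
    refine hθ (Subtype.ext (funext fun x => ?_))
    obtain ⟨r, rfl⟩ := (Finite.injective_iff_surjective.1 hinj) x
    show (θ : R → ℂ) (r⁻¹ * cnj g r) = 1
    have e1 : f (cnj g r) = f r := Units.ext (by rw [← hf, ← hf, ← smul_apply', he])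
    rw [hf, map_mul, map_inv, e1, inv_mul_cancel, Units.val_one]
  · intro hg
    refine Subtype.ext (funext fun r => congrArg (θ : R → ℂ) (Subtype.ext ?_))
    have e : (g : T) * r = r * g := congrArg Subtype.val (h.comm ⟨g, hg⟩ r)
    simp [mul_assoc, ← e]

theorem Cfg.card_orbit (h : Cfg R a) {θ : IrrCharacter R} (hθ : θ ≠ Char.trivialIrr R) {l : ℕ}
    (hl : Nat.card (NR R) = l * Nat.card R) :
    Nat.card (MulAction.orbit (NR R) θ) = l := by
  have hs : MulAction.stabilizer (NR R) θ = R.subgroupOf (NR R) := by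
    ext g
    rw [MulAction.mem_stabilizer_iff, h.smul_eq_iff hθ, Subgroup.mem_subgroupOf]
  have h1 : Nat.card (MulAction.orbit (NR R) θ) * Nat.card R = Nat.card (NR R) := by
    rw [← Nat.card_congr (Subgroup.subgroupOfEquivOfLe Subgroup.le_normalizer).toEquiv, ← hs,
      ← Nat.card_prod]
    exact Nat.card_congr (MulAction.orbitProdStabilizerEquivGroup _ _)
  rw [hl] at h1
  exact Nat.eq_of_mul_eq_mul_right Nat.card_pos h1

variable [Fintype T] [Fintype R]

/-- The restriction to `R`. -/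
abbrev res (R : Subgroup T) (φ : T → ℂ) : R → ℂ := fun r => φ r

/-- The multiplicity of `θ` in the restriction of `ψ`. -/
def mlt (ψ : IrrCharacter T) (θ : IrrCharacter R) : ℕ :=
  Classical.choose (Char.isCharacter_classInner_nat
    (Char.isCharacter_restrict (Char.isCharacter_of_irr ψ.2) R) θ)

theorem mlt_spec (ψ : IrrCharacter T) (θ : IrrCharacter R) :
    classInner (res R ψ) (θ : R → ℂ) = mlt ψ θ :=
  Classical.choose_spec (Char.isCharacter_classInner_nat
    (Char.isCharacter_restrict (Char.isCharacter_of_irr ψ.2) R) θ)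

theorem mlt_spec' (ψ : IrrCharacter T) (θ : IrrCharacter R) :
    classInner (θ : R → ℂ) (res R ψ) = mlt ψ θ := by
  rw [← Char.classInner_conj, mlt_spec, map_natCast]

theorem res_eq (ψ : IrrCharacter T) (r : R) :
    (ψ : T → ℂ) r = ∑ θ : IrrCharacter R, (mlt ψ θ : ℂ) * (θ : R → ℂ) r := by
  have h := congrFun (Char.eq_sum_classInner_smul
    (Char.isCharacter_isClassFunction (Char.isCharacter_restrict (Char.isCharacter_of_irr ψ.2) R))) r
  simpa [mlt_spec] using h

theorem degree_eq (h : Cfg R a) (ψ : IrrCharacter T) :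
    (ψ : T → ℂ) 1 = ((∑ θ : IrrCharacter R, mlt ψ θ : ℕ) : ℂ) := by
  have := res_eq ψ (1 : R)
  rw [OneMemClass.coe_one] at this
  rw [this, Nat.cast_sum]
  exact Finset.sum_congr rfl fun θ _ => by
    rw [Char.irr_degree_one_of_comm h.comm θ.2, mul_one]

theorem mlt_smul (ψ : IrrCharacter T) (g : NR R) (θ : IrrCharacter R) :
    mlt ψ (g • θ) = mlt ψ θ := by
  have h : classInner (res R ψ) ((g • θ : IrrCharacter R) : R → ℂ) =
      classInner (res R ψ) (θ : R → ℂ) := by
    simp only [classInner, smul_apply']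
    congr 1
    refine Fintype.sum_equiv (Equiv.ofBijective _ (cnj_bij g)) _ _ fun r => ?_
    show (ψ : T → ℂ) r * _ = (ψ : T → ℂ) (cnj g r) * _
    congr 1
    rw [cnj_val]
    have := Char.irr_isClassFunction ψ.2 (r : T) (g : T)⁻¹
    simpa using this.symm
  rw [mlt_spec, mlt_spec] at h
  exact_mod_cast h

theorem mlt_trivial (θ : IrrCharacter R) [Decidable (θ = Char.trivialIrr R)] :
    mlt (Char.trivialIrr T) θ = if θ = Char.trivialIrr R then 1 else 0 := by
  have h := mlt_spec (Char.trivialIrr T) θ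
  rw [show res R (Char.trivialIrr T : T → ℂ) = (Char.trivialIrr R : R → ℂ) from rfl] at h
  by_cases he : θ = Char.trivialIrr R
  · rw [if_pos he]
    rw [he, Char.classInner_irr_self (Char.trivialIrr R).2] at h
    rw [he]
    exact_mod_cast h.symm
  · rw [if_neg he]
    rw [Char.classInner_irr_ne (Char.trivialIrr R).2 θ.2 (fun e => he (Subtype.ext e.symm))] at h
    exact_mod_cast h.symm

/-! ### The permutation character on `R` -/

theorem Cfg.permChar_apply [Finite X] (h : Cfg R a) (r : R) [Decidable (r = 1)] :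
    Char.permChar X (r : T) = if r = 1 then (Nat.card R : ℂ) else 0 := by
  unfold Char.permChar
  by_cases hr : r = 1
  · subst hr
    rw [if_pos rfl, h.card_eq, OneMemClass.coe_one, MulAction.fixedBy_one_eq_univ]
    simp
  · rw [if_neg hr, Nat.cast_eq_zero, Nat.card_eq_zero]
    left
    refine ⟨fun ⟨x, hx⟩ => hr ?_⟩
    obtain ⟨s, rfl⟩ := h.reg.2 x
    have e : ((r * s : R) : T) • a = (s : T) • a := by
      rw [Subgroup.coe_mul, mul_smul]; exact hx
    exact mul_eq_right.1 (h.reg.1 e)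

theorem Cfg.inner_perm [Finite X] (h : Cfg R a) (θ : IrrCharacter R) :
    classInner (res R (Char.permChar X)) (θ : R → ℂ) = 1 := by
  classical
  simp only [classInner, h.permChar_apply, ite_mul, zero_mul, Finset.sum_ite_eq', Finset.mem_univ,
    if_true, Char.irr_degree_one_of_comm h.comm θ.2, map_one, mul_one]
  exact inv_mul_cancel₀ Char.card_ne_zero_complex

theorem Cfg.sum_irr [Finite X] (h : Cfg R a) (r : R) :
    ∑ θ : IrrCharacter R, (θ : R → ℂ) r = Char.permChar X (r : T) := by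
  have h1 := congrFun (Char.eq_sum_classInner_smul
    (Char.isCharacter_isClassFunction (Char.isCharacter_restrict (Char.isCharacter_permChar (G := T) X) R))) r
  rw [h1]
  simp [h.inner_perm]

/-! ### Induction from `R` -/

theorem Cfg.indFun_res (h : Cfg R a) {β : R → ℂ} (hβ : β 1 = 0) [Fintype (NR R)] (r : R) :
    indFun R β (r : T) = (Nat.card R : ℂ)⁻¹ * ∑ g : NR R, β (cnj g r) := by
  classical
  by_cases hr : r = 1
  · subst hr
    rw [OneMemClass.coe_one, CharInd.indFun_one_apply, hβ, mul_zero]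
    simp [hβ]
  rw [CharInd.indFun_apply]
  congr 1
  rw [← Finset.sum_subset (Finset.subset_univ ({x : T | x ∈ NR R} : Finset T))
    (fun x _ hx => CharInd.extendByZero_notMem R β fun hm => ?_)]
  · rw [Finset.sum_subtype (p := fun x => x ∈ NR R) _ (fun x => by simp) (fun x => extendByZero R β (x⁻¹ * r * x))]
    refine Finset.sum_congr rfl fun g _ => ?_
    exact CharInd.extendByZero_coe R β (cnj g r)
  · simp only [Finset.mem_filter, Finset.mem_univ, true_and] at hx
    refine hx ((Subgroup.inv_mem_iff _).1 (h.mem_normalizer r.2 ?_ (by simpa using hm)))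
    exact fun e => hr (Subtype.ext e)

theorem Cfg.inner_ind (h : Cfg R a) [Fintype (NR R)] (α : R → ℂ) {β : R → ℂ} (hβ : β 1 = 0) :
    classInner (indFun R α) (indFun R β) =
      (Nat.card R : ℂ)⁻¹ * ∑ g : NR R, classInner α (β ∘ cnj g) := by
  rw [CharInd.classInner_indFun_left R α (CharInd.indFun_isClassFunction R β)]
  simp only [classInner, h.indFun_res hβ, map_mul, map_inv₀, map_natCast, map_sum, Finset.mul_sum,
    Function.comp_apply]
  rw [Finset.sum_comm]
  exact Finset.sum_congr rfl fun g _ => Finset.sum_congr rfl fun r _ => by ring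

theorem inner_sub_ind (θ θ' : IrrCharacter R) (ψ : IrrCharacter T) :
    classInner (indFun R ((θ : R → ℂ) - (θ' : R → ℂ))) (ψ : T → ℂ) = ((mlt ψ θ : ℤ) - mlt ψ θ' : ℤ) := by
  rw [CharInd.classInner_indFun_left R _ (Char.irr_isClassFunction ψ.2), Char.classInner_sub_left,
    mlt_spec', mlt_spec']
  simp

/-- Two characters of `R` in different orbits give an induced difference of norm two. -/
theorem Cfg.sum_sq (h : Cfg R a) {θ θ' : IrrCharacter R} (hθ : θ ≠ Char.trivialIrr R)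
    (hθ' : θ' ≠ Char.trivialIrr R) (hne : θ' ∉ MulAction.orbit (NR R) θ) :
    ∑ ψ : IrrCharacter T, ((mlt ψ θ : ℤ) - mlt ψ θ') ^ 2 = 2 := by
  classical
  letI : Fintype (NR R) := Fintype.ofFinite _
  have h0 : ((θ : R → ℂ) - (θ' : R → ℂ)) 1 = 0 := by
    simp [Char.irr_degree_one_of_comm h.comm θ.2, Char.irr_degree_one_of_comm h.comm θ'.2]
  have hg : ∀ g : NR R, classInner ((θ : R → ℂ) - (θ' : R → ℂ)) (((θ : R → ℂ) - (θ' : R → ℂ)) ∘ cnj g) =
      if (g : T) ∈ R then 2 else 0 := by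
    intro g
    have e : ((θ : R → ℂ) - (θ' : R → ℂ)) ∘ cnj g =
        ((g • θ : IrrCharacter R) : R → ℂ) - ((g • θ' : IrrCharacter R) : R → ℂ) := rfl
    have h1 : θ ≠ g • θ' := fun e => hne (by
      rw [← inv_smul_smul g θ', ← e]; exact MulAction.mem_orbit _ _)
    have h2 : θ' ≠ g • θ := fun e => hne (e ▸ MulAction.mem_orbit _ _)
    rw [e, Char.classInner_sub_left, Char.classInner_sub_right, Char.classInner_sub_right,
      Char.classInner_irrCharacter, Char.classInner_irrCharacter, Char.classInner_irrCharacter,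
      Char.classInner_irrCharacter, if_neg h1, if_neg h2]
    by_cases hm : (g : T) ∈ R
    · rw [if_pos hm, if_pos ((h.smul_eq_iff hθ g).2 hm).symm,
        if_pos ((h.smul_eq_iff hθ' g).2 hm).symm]
      norm_num
    · rw [if_neg hm, if_neg (fun e => hm ((h.smul_eq_iff hθ g).1 e.symm)),
        if_neg (fun e => hm ((h.smul_eq_iff hθ' g).1 e.symm))]
      norm_num
  have hnorm : classInner (indFun R ((θ : R → ℂ) - (θ' : R → ℂ))) (indFun R ((θ : R → ℂ) - (θ' : R → ℂ))) = 2 := by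
    rw [h.inner_ind _ h0]
    simp only [hg]
    rw [← Finset.sum_filter, Finset.sum_const, nsmul_eq_mul]
    have hc : #({g : NR R | (g : T) ∈ R} : Finset (NR R)) = Nat.card R := by
      rw [← Nat.card_congr (Subgroup.subgroupOfEquivOfLe (Subgroup.le_normalizer : R ≤ NR R)).toEquiv,
        Nat.card_eq_fintype_card, ← Fintype.card_subtype]
      exact Fintype.card_congr (Equiv.subtypeEquivRight fun g => Subgroup.mem_subgroupOf.symm)
    rw [hc, inv_mul_cancel_left₀ Char.card_ne_zero_complex]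
  rw [Char.classInner_eq_sum_mul_conj (CharInd.indFun_isClassFunction R _)] at hnorm
  simp only [inner_sub_ind, map_intCast, ← sq] at hnorm
  exact_mod_cast hnorm

theorem two_of_sum_sq {ι : Type*} [Fintype ι] (d : ι → ℤ) (hd : ∑ i, d i ^ 2 = 2) {i j : ι}
    (hij : i ≠ j) (hi : d i ≠ 0) (hj : d j ≠ 0) {k : ι} (hki : k ≠ i) (hkj : k ≠ j) : d k = 0 := by
  classical
  by_contra hk
  have h := Finset.sum_le_sum_of_subset_of_nonneg (f := fun i => d i ^ 2)
    (Finset.subset_univ ({i, j, k} : Finset ι)) fun x _ _ => sq_nonneg _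
  rw [hd, Finset.sum_insert (by simp [hij, hki.symm]), Finset.sum_insert (by simp [hkj.symm]),
    Finset.sum_singleton] at h
  have h1 := sq_pos_of_ne_zero hi
  have h2 := sq_pos_of_ne_zero hj
  have h3 := sq_pos_of_ne_zero hk
  linarith

/-! ### The constituents of the permutation character -/

/-- `χ` is the constituent of the permutation character over `θ`. -/
def Mem (c : IrrCharacter T → ℕ) (θ : IrrCharacter R) (χ : IrrCharacter T) : Prop :=
  c χ = 1 ∧ mlt χ θ = 1 ∧ ∀ ψ, ψ ≠ χ → c ψ * mlt ψ θ = 0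

theorem Mem.unique {c : IrrCharacter T → ℕ} {θ : IrrCharacter R} {χ χ' : IrrCharacter T}
    (h : Mem c θ χ) (h' : Mem c θ χ') : χ' = χ := by
  by_contra hne
  have := h.2.2 χ' hne
  rw [h'.1, h'.2.1] at this
  exact one_ne_zero this

theorem Mem.of_smul {c : IrrCharacter T → ℕ} {θ : IrrCharacter R} {χ : IrrCharacter T}
    (h : Mem c θ χ) (g : NR R) : Mem c (g • θ) χ :=
  ⟨h.1, by rw [mlt_smul, h.2.1], fun ψ hψ => by rw [mlt_smul]; exact h.2.2 ψ hψ⟩

theorem Mem.mlt_other {c : IrrCharacter T → ℕ} {θ θ' : IrrCharacter R} {χ χ' : IrrCharacter T}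
    (h : Mem c θ χ) (h' : Mem c θ' χ') (hne : χ ≠ χ') : mlt χ θ' = 0 := by
  simpa [h.1] using h'.2.2 χ hne

theorem exists_mem [Finite X] (h : Cfg R a) {c : IrrCharacter T → ℕ}
    (hc : Char.permChar X = ∑ ψ : IrrCharacter T, c ψ • (ψ : T → ℂ)) (θ : IrrCharacter R) :
    ∃ χ, Mem c θ χ := by
  classical
  have hsum : ∑ ψ : IrrCharacter T, c ψ * mlt ψ θ = 1 := by
    have h1 := h.inner_perm θ
    have e : res R (Char.permChar X) = ∑ ψ : IrrCharacter T, (c ψ : ℂ) • res R ψ := by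
      funext r
      simp [res, hc]
    rw [e, Char.classInner_sum_left] at h1
    simp only [Char.classInner_smul_left, mlt_spec] at h1
    exact_mod_cast h1
  obtain ⟨χ, -, hχ⟩ := Finset.exists_ne_zero_of_sum_ne_zero (by rw [hsum]; exact one_ne_zero)
  have hle := Finset.single_le_sum (f := fun ψ => c ψ * mlt ψ θ) (fun _ _ => Nat.zero_le _)
    (Finset.mem_univ χ)
  rw [hsum] at hle
  have h1 : c χ * mlt χ θ = 1 := le_antisymm hle (Nat.pos_of_ne_zero hχ)
  refine ⟨χ, Nat.eq_one_of_mul_eq_one_right h1, Nat.eq_one_of_mul_eq_one_left h1, fun ψ hψ => ?_⟩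
  have := Finset.add_sum_erase Finset.univ (fun ψ => c ψ * mlt ψ θ) (Finset.mem_univ χ)
  rw [hsum, h1] at this
  have h4 : ∑ ψ ∈ Finset.univ.erase χ, c ψ * mlt ψ θ = 0 := Nat.add_left_cancel (n := 1) this
  exact Finset.sum_eq_zero_iff.1 h4 ψ (Finset.mem_erase.2 ⟨hψ, Finset.mem_univ _⟩)

theorem charPart_aux [Finite X] [MulAction.IsPretransitive T X] (h : Cfg R a)
    (hgen : ∀ K : Subgroup T, K.Normal → R ≤ K → K = ⊤)
    (h2 : ¬ MulAction.IsMultiplyPretransitive T X 2)
    (l : ℕ) (hl : Nat.card (NR R) = l * Nat.card R) (hl2 : 2 ≤ l) :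
    Nat.card X - 1 ≤ l * (l - 1) ∧ (Nat.card X - 1 = l * (l - 1) → l ≤ 3) := by
  classical
  haveI : Nonempty X := ⟨a⟩
  set n := Nat.card X with hn_def
  have hn : 2 ≤ n := by
    by_contra hlt
    have : Subsingleton X := Finite.card_le_one_iff_subsingleton.1 (by omega)
    exact h2 (MulAction.is_two_pretransitive_iff.2 fun {x y _ _} hxy _ =>
      absurd (Subsingleton.elim x y) hxy)
  obtain ⟨c, hc, hcin⟩ := Char.isCharacter_exists_coeff (Char.isCharacter_permChar (G := T) X)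
  set t : IrrCharacter T := Char.trivialIrr T
  set t0 : IrrCharacter R := Char.trivialIrr R
  have hct : c t = 1 := by
    have h1 := hcin t
    rw [show ((t : T → ℂ)) = fun _ => 1 from rfl, Char.classInner_permChar_one,
      Char.card_orbits_eq_one_of_pretransitive] at h1
    exact_mod_cast h1.symm
  choose mem hmem using exists_mem h hc
  have ht0 : mem t0 = t := ((hmem t0).unique ⟨hct, by rw [mlt_trivial, if_pos rfl], fun ψ hψ => by
    by_contra hne
    have := (hmem t0).2.2 t (fun e => ?_)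
    · rw [hct, mlt_trivial, if_pos rfl] at this
      exact one_ne_zero this
    · rw [e] at hψ
      exact hne ((hmem t0).2.2 ψ hψ)⟩).symm
  have hmem0 : ∀ θ, θ ≠ t0 → mem θ ≠ t := fun θ hθ e => by
    have := (hmem θ).2.1
    rw [e, mlt_trivial, if_neg hθ] at this
    exact zero_ne_one this
  have hm0 : ∀ θ, θ ≠ t0 → mlt (mem θ) t0 = 0 := fun θ hθ =>
    (hmem θ).mlt_other (hmem t0) (by rw [ht0]; exact hmem0 θ hθ)
  -- not all constituents coincide
  have hother : ∀ θ, θ ≠ t0 → ∃ θ', θ' ≠ t0 ∧ mem θ' ≠ mem θ := by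
    intro θ hθ
    by_contra hall
    push Not at hall
    have hz : ∀ ψ, ψ ≠ t → ψ ≠ mem θ → c ψ = 0 := by
      intro ψ h1 h3
      by_contra h4
      have hz : ∀ θ', mlt ψ θ' = 0 := fun θ' => by
        have h5 : ψ ≠ mem θ' := by
          by_cases he : θ' = t0
          · rw [he, ht0]; exact h1
          · rw [hall θ' he]; exact h3
        exact (Nat.mul_eq_zero.1 ((hmem θ').2.2 ψ h5)).resolve_left h4
      exact Char.irr_one_ne_zero ψ.2 (by rw [degree_eq h ψ]; simp [hz])
    refine h2 ((Char.isIrrCharacter_permChar_sub_one_iff X hn).1 ?_)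
    have e : (fun g => Char.permChar X g - 1) = (mem θ : T → ℂ) := by
      funext g
      rw [hc, Finset.sum_apply, Finset.sum_eq_add t (mem θ) (hmem0 θ hθ).symm
        (fun ψ _ hψ => by simp [hz ψ hψ.1 hψ.2]) (by simp) (by simp)]
      rw [hct, (hmem θ).1, one_smul, one_smul]
      show 1 + (mem θ : T → ℂ) g - 1 = _
      ring
    rw [e]
    exact (mem θ).2
  -- constituents over different orbits
  have hdiff : ∀ θ θ', θ ≠ t0 → θ' ≠ t0 → mem θ ≠ mem θ' → ∀ ψ, ψ ≠ mem θ → ψ ≠ mem θ' →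
      mlt ψ θ = mlt ψ θ' := by
    intro θ θ' hθ hθ' hne ψ h1 h3
    have horb : θ' ∉ MulAction.orbit (NR R) θ := fun ⟨g, hg⟩ =>
      hne (((hmem θ).of_smul g).unique (by rw [show g • θ = θ' from hg]; exact hmem θ')).symm
    have := two_of_sum_sq _ (h.sum_sq hθ hθ' horb) hne
      (by rw [(hmem θ).2.1, (hmem θ).mlt_other (hmem θ') hne]; norm_num)
      (by rw [(hmem θ').2.1, (hmem θ').mlt_other (hmem θ) (Ne.symm hne)]; norm_num) h1 h3
    omega
  have hsame : ∀ θ θ', θ ≠ t0 → θ' ≠ t0 → mem θ = mem θ' → θ' ∈ MulAction.orbit (NR R) θ := by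
    intro θ θ' hθ hθ' he
    by_contra horb
    obtain ⟨θ'', hθ'', hne⟩ := hother θ hθ
    have hall : ∀ ψ, mlt ψ θ = mlt ψ θ' := by
      intro ψ
      by_cases h1 : ψ = mem θ
      · rw [h1, (hmem θ).2.1, he, (hmem θ').2.1]
      by_cases h3 : ψ = mem θ''
      · rw [h3, (hmem θ'').mlt_other (hmem θ) hne,
          (hmem θ'').mlt_other (hmem θ') (he ▸ hne)]
      rw [hdiff θ θ'' hθ hθ'' hne.symm ψ h1 h3, hdiff θ' θ'' hθ' hθ'' (he ▸ hne.symm) ψ (he ▸ h1) h3]
    have := h.sum_sq hθ hθ' horb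
    simp [hall] at this
  have huni : ∀ ψ, (∀ θ, θ ≠ t0 → ψ ≠ mem θ) → ∀ θ θ', θ ≠ t0 → θ' ≠ t0 → mlt ψ θ = mlt ψ θ' := by
    intro ψ hψ θ θ' hθ hθ'
    by_cases he : mem θ = mem θ'
    · obtain ⟨g, hg⟩ := hsame θ θ' hθ hθ' he
      rw [← hg]
      exact (mlt_smul ψ g θ).symm
    · exact hdiff θ θ' hθ hθ' he ψ (hψ θ hθ) (hψ θ' hθ')
  -- one nontrivial character of `R`
  have hcardR : Fintype.card (IrrCharacter R) = n := by
    have h1 := h.sum_irr 1
    simp only [Char.irr_degree_one_of_comm h.comm (Subtype.prop _)] at h1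
    rw [h.permChar_apply, if_pos rfl, h.card_eq] at h1
    simpa using h1
  obtain ⟨θ₁, hθ₁⟩ : ∃ θ, θ ≠ t0 := by
    haveI : Nontrivial (IrrCharacter R) := Fintype.one_lt_card_iff_nontrivial.1 (by omega)
    exact exists_ne t0
  set χ := mem θ₁
  have hχm : ∀ θ, mlt χ θ = if θ ∈ MulAction.orbit (NR R) θ₁ then 1 else 0 := by
    intro θ
    split_ifs with ho
    · obtain ⟨g, rfl⟩ := ho
      show mlt χ (g • θ₁) = 1
      rw [mlt_smul, (hmem θ₁).2.1]
    · by_cases hθ : θ = t0
      · rw [hθ]; exact hm0 θ₁ hθ₁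
      · exact (hmem θ₁).mlt_other (hmem θ) fun e => ho (hsame θ₁ θ hθ₁ hθ e)
  have horbit : ∑ θ : IrrCharacter R, (if θ ∈ MulAction.orbit (NR R) θ₁ then 1 else 0 : ℕ) = l := by
    rw [Finset.sum_boole, Nat.cast_id, ← Fintype.card_subtype, ← Nat.card_eq_fintype_card]
    exact h.card_orbit hθ₁ hl
  -- the square of the degree of `χ`
  set P : T → ℂ := (χ : T → ℂ) * fun g => conj ((χ : T → ℂ) g)
  obtain ⟨d, hd, hdin⟩ := Char.isCharacter_exists_coeff (show IsCharacter T P from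
    Char.isCharacter_mul (Char.isCharacter_of_irr χ.2)
      (Char.isCharacter_conjFun (Char.isCharacter_of_irr χ.2)))
  have hdt : d t = 1 := by
    have h1 := hdin t
    have e : classInner P (t : T → ℂ) = classInner (χ : T → ℂ) (χ : T → ℂ) := by
      simp [classInner, P, t, Char.trivialIrr]
    rw [e, Char.classInner_irr_self χ.2] at h1
    exact_mod_cast h1.symm
  have hA : ∑ ψ : IrrCharacter T, d ψ * mlt ψ t0 = l := by
    have h1 : classInner (res R P) (t0 : R → ℂ) = classInner (res R χ) (res R χ) := by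
      simp [classInner, P, res, t0, Char.trivialIrr]
    rw [Char.classInner_eq_sum_mul_conj (a := res R χ) (Char.isCharacter_isClassFunction
      (Char.isCharacter_restrict (Char.isCharacter_of_irr χ.2) R))] at h1
    simp only [mlt_spec, map_natCast] at h1
    rw [show res R P = ∑ ψ : IrrCharacter T, (d ψ : ℂ) • res R ψ by funext r; simp [res, hd],
      Char.classInner_sum_left] at h1
    simp only [Char.classInner_smul_left, mlt_spec] at h1
    have h3 : ∑ θ : IrrCharacter R, mlt χ θ * mlt χ θ = l := by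
      simp only [hχm, ite_mul, one_mul, zero_mul]
      refine Eq.trans (Finset.sum_congr rfl fun θ _ => ?_) horbit
      split_ifs <;> rfl
    rw [← h3]
    exact_mod_cast h1
  have hB : ∑ ψ : IrrCharacter T, d ψ * ∑ θ : IrrCharacter R, mlt ψ θ = l * l := by
    have h1 := congrFun hd 1
    simp only [P, Pi.mul_apply, Finset.sum_apply, nsmul_eq_mul, Pi.natCast_apply, degree_eq h,
      map_natCast] at h1
    rw [show ∑ θ : IrrCharacter R, mlt χ θ = l from (Finset.sum_congr rfl fun θ _ => hχm θ).trans horbit] at h1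
    exact_mod_cast h1.symm
  have hsplit : ∀ ψ : IrrCharacter T, ∑ θ : IrrCharacter R, mlt ψ θ =
      mlt ψ t0 + ∑ θ ∈ Finset.univ.erase t0, mlt ψ θ := fun ψ =>
    (Finset.add_sum_erase _ _ (Finset.mem_univ _)).symm
  have hC : ∑ ψ : IrrCharacter T, d ψ * ∑ θ ∈ Finset.univ.erase t0, mlt ψ θ + l = l * l := by
    rw [← hB]
    simp only [hsplit, mul_add, Finset.sum_add_distrib, hA, add_comm]
  -- a nontrivial constituent with trivial part
  have ht1 : mlt t t0 = 1 := by rw [mlt_trivial, if_pos rfl]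
  obtain ⟨ψ₀, hψt, hψ₀⟩ : ∃ ψ, ψ ≠ t ∧ d ψ * mlt ψ t0 ≠ 0 := by
    by_contra hall
    push Not at hall
    rw [Finset.sum_eq_single t (fun ψ _ hψ => hall ψ hψ) (by simp), hdt, ht1] at hA
    omega
  have hnm : ∀ ψ, ψ ≠ t → mlt ψ t0 ≠ 0 → ∀ θ, θ ≠ t0 → ψ ≠ mem θ := fun ψ _ h1 θ hθ e =>
    h1 (e ▸ hm0 θ hθ)
  have hb : ∀ ψ, ψ ≠ t → mlt ψ t0 ≠ 0 → ∀ θ, θ ≠ t0 → mlt ψ θ = mlt ψ θ₁ ∧ 0 < mlt ψ θ₁ := by
    intro ψ hψ h1 θ hθ
    have hu := huni ψ (hnm ψ hψ h1)
    refine ⟨hu θ θ₁ hθ hθ₁, Nat.pos_of_ne_zero fun h0 => ?_⟩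
    have hR : ∀ r : R, (ψ : T → ℂ) r = (ψ : T → ℂ) 1 := by
      intro r
      rw [res_eq ψ r, degree_eq h ψ, Nat.cast_sum]
      refine Finset.sum_congr rfl fun θ' _ => ?_
      by_cases he : θ' = t0
      · rw [he]; simp [t0, Char.trivialIrr]
      · rw [hu θ' θ₁ he hθ₁, h0]; simp
    obtain ⟨K, hK, hKmem⟩ := Char.isCharacter_exists_kernel (Char.isCharacter_of_irr ψ.2)
    have htop := hgen K hK fun x hx => (hKmem x).2 (hR ⟨x, hx⟩)
    have hconst : (ψ : T → ℂ) = fun _ => (ψ : T → ℂ) 1 :=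
      funext fun g => (hKmem g).1 (htop ▸ Subgroup.mem_top g)
    obtain ⟨k, -, hk⟩ := Char.irr_one_pos ψ.2
    have h3 := Char.classInner_irr_self ψ.2
    rw [hconst, hk] at h3
    simp only [classInner, map_natCast, Finset.sum_const, Finset.card_univ, nsmul_eq_mul] at h3
    rw [← Nat.card_eq_fintype_card, inv_mul_cancel_left₀ Char.card_ne_zero_complex] at h3
    have h4 : k * k = 1 := by exact_mod_cast h3
    refine hψ (Subtype.ext ?_)
    rw [hconst, hk, Nat.eq_one_of_mul_eq_one_right h4]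
    simp [t, Char.trivialIrr]
  have herase : ∀ ψ, ψ ≠ t → mlt ψ t0 ≠ 0 →
      ∑ θ ∈ Finset.univ.erase t0, mlt ψ θ = (n - 1) * mlt ψ θ₁ := by
    intro ψ hψ h1
    rw [Finset.sum_congr rfl fun θ hθ => (hb ψ hψ h1 θ (Finset.ne_of_mem_erase hθ)).1,
      Finset.sum_const, smul_eq_mul, Finset.card_erase_of_mem (Finset.mem_univ _), Finset.card_univ,
      hcardR]
  have hm1 : mlt ψ₀ t0 ≠ 0 := right_ne_zero_of_mul hψ₀
  have hd0 : 0 < d ψ₀ := Nat.pos_of_ne_zero (left_ne_zero_of_mul hψ₀)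
  have hb0 := (hb ψ₀ hψt hm1 θ₁ hθ₁).2
  have hge : n - 1 ≤ d ψ₀ * ∑ θ ∈ Finset.univ.erase t0, mlt ψ₀ θ := by
    rw [herase ψ₀ hψt hm1]
    calc n - 1 = 1 * ((n - 1) * 1) := by ring
      _ ≤ _ := Nat.mul_le_mul hd0 (Nat.mul_le_mul_left _ hb0)
  have hrest : d ψ₀ * (∑ θ ∈ Finset.univ.erase t0, mlt ψ₀ θ) +
      ∑ ψ ∈ Finset.univ.erase ψ₀, d ψ * ∑ θ ∈ Finset.univ.erase t0, mlt ψ θ =
      ∑ ψ, d ψ * ∑ θ ∈ Finset.univ.erase t0, mlt ψ θ := Finset.add_sum_erase Finset.univ
    (fun ψ => d ψ * ∑ θ ∈ Finset.univ.erase t0, mlt ψ θ) (Finset.mem_univ ψ₀)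
  have hll : l * (l - 1) + l = l * l := by
    obtain ⟨k, rfl⟩ : ∃ k, l = k + 2 := ⟨l - 2, by omega⟩
    simp only [Nat.add_succ_sub_one]; ring
  refine ⟨by omega, fun heq => ?_⟩
  have he0 : d ψ₀ * ∑ θ ∈ Finset.univ.erase t0, mlt ψ₀ θ = n - 1 := by omega
  have hz : ∀ ψ, ψ ≠ ψ₀ → d ψ * ∑ θ ∈ Finset.univ.erase t0, mlt ψ θ = 0 := fun ψ hψ =>
    Finset.sum_eq_zero_iff.1 (show ∑ ψ ∈ Finset.univ.erase ψ₀,
      d ψ * ∑ θ ∈ Finset.univ.erase t0, mlt ψ θ = 0 by omega) ψ (Finset.mem_erase.2 ⟨hψ, Finset.mem_univ _⟩)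
  have hone : d ψ₀ = 1 ∧ mlt ψ₀ θ₁ = 1 := by
    rw [herase ψ₀ hψt hm1] at he0
    have h5 : d ψ₀ * mlt ψ₀ θ₁ = 1 :=
      Nat.eq_of_mul_eq_mul_left (by omega : 0 < n - 1) (by rw [mul_one]; linarith)
    exact ⟨Nat.eq_one_of_mul_eq_one_right h5, Nat.eq_one_of_mul_eq_one_left h5⟩
  have hm1' : mlt ψ₀ t0 = l - 1 := by
    have h5 : ∀ ψ, ψ ≠ t ∧ ψ ≠ ψ₀ → d ψ * mlt ψ t0 = 0 := by
      rintro ψ ⟨hψ, hψ'⟩
      by_contra hne
      have h6 := hz ψ hψ'
      rw [herase ψ hψ (right_ne_zero_of_mul hne), mul_eq_zero, mul_eq_zero] at h6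
      have := (hb ψ hψ (right_ne_zero_of_mul hne) θ₁ hθ₁).2
      have := left_ne_zero_of_mul hne
      omega
    rw [Finset.sum_eq_add t ψ₀ hψt.symm (fun ψ _ hψ => h5 ψ hψ) (by simp) (by simp), hdt, ht1,
      hone.1] at hA
    omega
  -- Bessel
  have hval : ∀ r : R, r ≠ 1 → (ψ₀ : T → ℂ) r = (l : ℂ) - 2 := by
    intro r hr
    have h5 := h.sum_irr r
    rw [h.permChar_apply, if_neg hr, ← Finset.add_sum_erase _ _ (Finset.mem_univ t0)] at h5
    rw [res_eq, ← Finset.add_sum_erase _ _ (Finset.mem_univ t0),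
      Finset.sum_congr rfl fun θ hθ => by
        rw [(hb ψ₀ hψt hm1 θ (Finset.ne_of_mem_erase hθ)).1, hone.2, Nat.cast_one, one_mul],
      hm1', Nat.cast_sub (by omega)]
    have ht0r : (t0 : R → ℂ) r = 1 := rfl
    rw [ht0r] at h5 ⊢
    linear_combination h5
  set β : R → ℂ := fun r => if r = 1 then 0 else 1 with hβ
  have hβ1 : β 1 = 0 := if_pos rfl
  letI : Fintype (NR R) := Fintype.ofFinite _
  have hsumβ : ∑ r : R, β r = (n : ℂ) - 1 := by
    simp [hβ, Finset.sum_ite, Finset.filter_ne', ← Nat.card_eq_fintype_card, h.card_eq, hn_def,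
      Nat.cast_sub (show 1 ≤ Nat.card X by omega)]
  have hcn : (Nat.card R : ℂ) = n := by rw [h.card_eq]
  have hf0 : ∀ φ : R → ℂ, (∀ r, r ≠ 1 → φ r = φ 1) → classInner β φ =
      (n : ℂ)⁻¹ * ((n : ℂ) - 1) * conj (φ 1) := by
    intro φ hφ
    rw [classInner, hcn, mul_assoc, ← hsumβ, Finset.sum_mul]
    congr 1
    refine Finset.sum_congr rfl fun r _ => ?_
    by_cases hr : r = 1
    · simp [hr, hβ1]
    · rw [hφ r hr]
  have hff : classInner (indFun R β) (indFun R β) = (l : ℂ) * ((n : ℂ)⁻¹ * ((n : ℂ) - 1)) := by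
    have hg : ∀ g : NR R, classInner β (β ∘ cnj g) = (n : ℂ)⁻¹ * ((n : ℂ) - 1) := by
      intro g
      rw [classInner, hcn, ← hsumβ]
      congr 1
      refine Finset.sum_congr rfl fun r _ => ?_
      by_cases hr : r = 1
      · simp [hβ, hr]
      · have : cnj g r ≠ 1 := fun e => hr ((cnj_bij g).1 (e.trans (map_one _).symm))
        simp [hβ, hr, this]
    rw [h.inner_ind β hβ1]
    simp only [hg, Finset.sum_const, Finset.card_univ, nsmul_eq_mul, ← Nat.card_eq_fintype_card, hl,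
      Nat.cast_mul, hcn]
    have : (n : ℂ) ≠ 0 := by exact_mod_cast (by omega : n ≠ 0)
    field_simp
  have hft : classInner (indFun R β) (t : T → ℂ) = ((n : ℂ)⁻¹ * ((n : ℂ) - 1)) := by
    rw [CharInd.classInner_indFun_left R _ (Char.irr_isClassFunction t.2), hf0 _ fun _ _ => rfl]
    simp [t, Char.trivialIrr]
  have hfψ : classInner (indFun R β) (ψ₀ : T → ℂ) = ((n : ℂ)⁻¹ * ((n : ℂ) - 1)) * ((l : ℂ) - 2) := by
    rw [CharInd.classInner_indFun_left R _ (Char.irr_isClassFunction ψ₀.2), classInner, hcn,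
      mul_assoc, ← hsumβ, Finset.sum_mul]
    congr 1
    refine Finset.sum_congr rfl fun r _ => ?_
    by_cases hr : r = 1
    · simp [hr, hβ1]
    · rw [hval r hr]; simp [map_ofNat]
  rw [Char.classInner_eq_sum_mul_conj (CharInd.indFun_isClassFunction R β)] at hff
  simp only [Complex.mul_conj] at hff
  set q : ℝ := (n : ℝ)⁻¹ * ((n : ℝ) - 1) with hq
  have hft' : classInner (indFun R β) (t : T → ℂ) = (q : ℂ) := by rw [hft, hq]; push_cast; rfl
  have hfψ' : classInner (indFun R β) (ψ₀ : T → ℂ) = ((q * ((l : ℝ) - 2) : ℝ) : ℂ) := by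
    rw [hfψ, hq]; push_cast; rfl
  have hff' : ∑ ψ : IrrCharacter T, Complex.normSq (classInner (indFun R β) (ψ : T → ℂ)) =
      (l : ℝ) * q := by
    apply Complex.ofReal_injective
    rw [hq]; push_cast; exact hff
  have hbes := Finset.sum_le_sum_of_subset_of_nonneg
    (f := fun ψ : IrrCharacter T => Complex.normSq (classInner (indFun R β) (ψ : T → ℂ)))
    (Finset.subset_univ ({t, ψ₀} : Finset (IrrCharacter T))) fun _ _ _ => Complex.normSq_nonneg _
  rw [Finset.sum_pair hψt.symm, hff', hft', hfψ', Complex.normSq_ofReal, Complex.normSq_ofReal] at hbes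
  have hn0 : (0 : ℝ) < n := by exact_mod_cast (by omega : 0 < n)
  have hqn : q * n = (n : ℝ) - 1 := by rw [hq]; field_simp
  have hn1 : (n : ℝ) - 1 = (l : ℝ) * ((l : ℝ) - 1) := by
    have : (n : ℤ) - 1 = (l : ℤ) * ((l : ℤ) - 1) := by
      have e : ((n - 1 : ℕ) : ℤ) = ((l * (l - 1) : ℕ) : ℤ) := by rw [heq]
      push_cast [Nat.cast_sub (show 1 ≤ n by omega), Nat.cast_sub (show 1 ≤ l by omega)] at e
      linarith
    exact_mod_cast this
  have hn2 : (2 : ℝ) ≤ n := by exact_mod_cast hn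
  have hqpos : 0 < q := by rw [hq]; exact mul_pos (inv_pos.2 hn0) (by linarith)
  have hkey : q * (1 + ((l : ℝ) - 2) ^ 2) ≤ l := le_of_mul_le_mul_left (by nlinarith) hqpos
  by_contra hl4
  have hl4' : (4 : ℝ) ≤ l := by exact_mod_cast (by omega : 4 ≤ l)
  have h6 : ((n : ℝ) - 1) * (1 + ((l : ℝ) - 2) ^ 2) ≤ (l : ℝ) * n := by
    calc ((n : ℝ) - 1) * (1 + ((l : ℝ) - 2) ^ 2) = (q * (1 + ((l : ℝ) - 2) ^ 2)) * n := by
          rw [← hqn]; ring
      _ ≤ _ := mul_le_mul_of_nonneg_right hkey hn0.le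
  nlinarith [h6, hn1, hl4', mul_nonneg (sub_nonneg.2 hl4') (sq_nonneg ((l : ℝ) - 4))]

end CharPart

/-- The character bound for a regular self-centralising abelian subgroup. -/
theorem charPart {T X : Type*} [Group T] [Finite T] [MulAction T X] [Finite X]
    [MulAction.IsPretransitive T X] (R : Subgroup T) [IsMulCommutative R] (a : X)
    (hreg : Function.Bijective (fun r : R => (r : T) • a))
    (hcc : ∀ x ∈ R, x ≠ 1 → Subgroup.centralizer ({x} : Set T) ≤ R)
    (hgen : ∀ K : Subgroup T, K.Normal → R ≤ K → K = ⊤)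
    (h2 : ¬ MulAction.IsMultiplyPretransitive T X 2)
    (l : ℕ) (hl : Nat.card (Subgroup.normalizer (R : Set T)) = l * Nat.card R) (hl2 : 2 ≤ l) :
    Nat.card X - 1 ≤ l * (l - 1) ∧ (Nat.card X - 1 = l * (l - 1) → l ≤ 3) := by
  classical
  letI := Fintype.ofFinite T
  letI := Fintype.ofFinite R
  exact CharPart.charPart_aux ⟨fun r s => IsMulCommutative.is_comm.comm r s, hreg, hcc⟩ hgen h2 l hl hl2

end Cfsg.Agent.DerIdx
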