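import Cfsg.Agent.DerIdx.Fpf

/-!
The case of a `2`-group with a cyclic subgroup of index two.
-/

set_option autoImplicit false
set_option linter.style.haveILetI false

namespace Cfsg.Agent.DerIdx

open Subgroup MulAction

variable {A V : Type*} [Group A] [Finite A] [AddCommGroup V] [Finite V] [DistribMulAction A V]

theorem dihedral_case [FaithfulSMul A V] {B N Q : Subgroup A} [B.Normal] (hB : Big V B)
    (hcop : Nat.Coprime 2 (Nat.card V)) (hQ : IsPGroup 2 Q)
    (hN : N ⊔ B = ⊤) (hQN : Q ≤ N) (hQB : Q ≤ B) (hnorm : ∀ n ∈ N, ∀ g ∈ Q, n * g * n⁻¹ ∈ Q)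
    {z : A} (hzQ : z ∈ Q) (hz1 : z ≠ 1) (hzf : ∀ w : V, z • w = w → w = 0) (hzp : z ^ 2 = 1)
    (hzc : ∀ f ∈ Q, Commute z f)
    (C : Subgroup Q) (hCidx : C.index = 2) (hCinv : ∀ g ∈ C, orderOf g = 2 → (g : A) = z)
    {x : A} (hxQ : x ∈ Q) (hxp : x ^ 2 = 1) (hx1 : x ≠ 1) (hxz : x ∉ zpowers z)
    {v : V} (hv0 : v ≠ 0) (hxv : x • v = v) : False := by
  classical
  haveI : Fact (Nat.Prime 2) := ⟨Nat.prime_two⟩
  haveI := C.normal_of_index_eq_two hCidx
  have hcx : Commute z x := hzc x hxQ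
  -- the two complements of `⟨z⟩` in `⟨x, z⟩`
  let U : Subgroup A := closure {x, z}
  have hUcomm : ∀ a ∈ U, ∀ b ∈ U, a * b = b * a := by
    haveI := Subgroup.isMulCommutative_closure (G := A) (k := {x, z}) (fun a ha b hb => by
      rcases ha with rfl | rfl <;> rcases hb with rfl | rfl
      · rfl
      · exact hcx.symm.eq
      · exact hcx.eq
      · rfl)
    intro a ha b hb
    exact congrArg Subtype.val (IsMulCommutative.is_comm.comm (⟨a, ha⟩ : U) ⟨b, hb⟩)
  have hU0 : fix V (U : Set A) = ⊥ := (AddSubgroup.eq_bot_iff_forall _).2 fun w hw =>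
    hzf w (hw z (subset_closure (by simp)))
  have hy1 : x * z ≠ 1 := fun he => hxz (by
    rw [eq_inv_of_mul_eq_one_left he]
    exact inv_mem (mem_zpowers z))
  have hyp : (x * z) ^ 2 = 1 := by rw [hcx.symm.mul_pow, hxp, hzp, one_mul]
  have hxne : x ≠ x * z := fun he => hz1 (by
    have := he.symm
    rwa [mul_eq_left] at this)
  let F : Fin 2 → Subgroup A := ![zpowers x, zpowers (x * z)]
  have hF : ∀ i, F i ≤ U := by
    intro i
    fin_cases i
    · exact zpowers_le.2 (subset_closure (by simp))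
    · exact zpowers_le.2 (mul_mem (subset_closure (by simp)) (subset_closure (by simp)))
  have hprod : ∏ i, Nat.card (fix V (F i : Set A)) ≤ Nat.card V := by
    refine prod_fix_le U hUcomm hU0 F hF ?_ ?_
    · intro i j hij
      have hgen : U ≤ zpowers x ⊔ zpowers (x * z) := by
        refine (closure_le _).2 ?_
        rintro g (rfl | rfl)
        · exact mem_sup_left (mem_zpowers g)
        · have : x⁻¹ * (x * g) ∈ zpowers x ⊔ zpowers (x * g) :=
            mul_mem (mem_sup_left (inv_mem (mem_zpowers x))) (mem_sup_right (mem_zpowers _))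
          rwa [inv_mul_cancel_left] at this
      fin_cases i <;> fin_cases j
      · exact absurd rfl hij
      · exact hgen
      · exact hgen.trans (le_of_eq (sup_comm _ _))
      · exact absurd rfl hij
    · intro i
      fin_cases i <;>
        (simp only [F, Fin.isValue, Fin.zero_eta, Fin.mk_one, Matrix.cons_val_zero, Matrix.cons_val_one]
         rw [Nat.card_zpowers]
         first
           | (rw [orderOf_eq_prime hxp hx1]; exact hcop)
           | (rw [orderOf_eq_prime hyp hy1]; exact hcop))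
  rw [Fin.prod_univ_two] at hprod
  have hzpow : ∀ a : A, ∀ w : V, a • w = w → w ∈ fix V (zpowers a : Set A) := fun a w hw g hg =>
    (zpowers_le.2 (show a ∈ stabilizer A w from hw)) hg
  -- both fixed spaces are non-trivial
  have hfx : 2 ≤ Nat.card (fix V (zpowers x : Set A)) := by
    rw [Nat.succ_le_iff, Finite.one_lt_card_iff_nontrivial]
    exact ⟨⟨⟨v, hzpow x v hxv⟩, 0, fun he => hv0 (congrArg Subtype.val he)⟩⟩
  obtain ⟨w0, hw0⟩ : ∃ w : V, x • w ≠ w := by
    by_contra hall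
    push Not at hall
    exact hx1 (eq_of_smul_eq_smul fun w : V => by rw [hall w, one_smul])
  have hxx : x • x • w0 = w0 := by rw [← mul_smul, ← pow_two, hxp, one_smul]
  have hfy : 2 ≤ Nat.card (fix V (zpowers (x * z) : Set A)) := by
    have hzinv : ∀ w : V, z • w = -w := by
      intro w
      have h2 : z • (z • w + w) = z • w + w := by
        rw [smul_add, ← mul_smul, ← pow_two, hzp, one_smul, add_comm]
      exact eq_neg_of_add_eq_zero_left (hzf _ h2)
    rw [Nat.succ_le_iff, Finite.one_lt_card_iff_nontrivial]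
    refine ⟨⟨⟨x • w0 - w0, hzpow _ _ ?_⟩, 0,
      fun he => hw0 (sub_eq_zero.1 (congrArg Subtype.val he))⟩⟩
    rw [mul_smul, hzinv, smul_neg, smul_sub, hxx, neg_sub]
  -- choose the smaller one
  obtain ⟨t, htQ, htp, ht1, htz, hu2, hut⟩ : ∃ t : A, t ∈ Q ∧ t ^ 2 = 1 ∧ t ≠ 1 ∧ t ∉ zpowers z ∧
      2 ≤ Nat.card (fix V (zpowers t : Set A)) ∧
      Nat.card (fix V (zpowers t : Set A)) ^ 2 ≤ Nat.card V := by
    rcases Nat.le_total (Nat.card (fix V (zpowers x : Set A)))
      (Nat.card (fix V (zpowers (x * z) : Set A))) with h | h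
    · refine ⟨x, hxQ, hxp, hx1, hxz, hfx, le_trans ?_ hprod⟩
      rw [pow_two]
      exact Nat.mul_le_mul_left _ h
    · refine ⟨x * z, mul_mem hxQ hzQ, hyp, hy1, fun hm => hxz ?_, hfy, le_trans ?_ hprod⟩
      · have := mul_mem hm (inv_mem (mem_zpowers z))
        rwa [mul_inv_cancel_right] at this
      · rw [pow_two]
        exact Nat.mul_le_mul_right _ h
  set u := Nat.card (fix V (zpowers t : Set A)) with hu
  -- elements fixing a non-zero vector avoid `C`
  have hCfree : ∀ g : Q, g ∈ C → ∀ w : V, w ≠ 0 → (g : A) • w = w → g = 1 := by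
    intro g hg w hw hgw
    by_contra hg1
    obtain ⟨s, hs⟩ := IsPGroup.iff_orderOf.1 hQ g
    have hs1 : 1 ≤ s := by
      by_contra hlt
      exact hg1 (orderOf_eq_one_iff.1 (by rw [hs, show s = 0 by omega, pow_zero]))
    have ho : orderOf (g ^ 2 ^ (s - 1)) = 2 := by
      rw [orderOf_pow' g (pow_ne_zero _ two_ne_zero), hs,
        Nat.gcd_eq_right (pow_dvd_pow 2 (Nat.sub_le s 1)),
        Nat.pow_div (Nat.sub_le s 1) two_pos, show s - (s - 1) = 1 by omega, pow_one]
    have hzst : z ∈ stabilizer A w := by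
      rw [← hCinv _ (pow_mem hg _) ho, Subgroup.coe_pow]
      exact pow_mem (show (g : A) ∈ stabilizer A w from hgw) _
    exact hw (hzf w hzst)
  set 𝒯 : Set A := {g | ∃ h : g ∈ Q, (⟨g, h⟩ : Q) ∉ C ∧ Nat.card (fix V (zpowers g : Set A)) = u}
    with h𝒯
  have h𝒯card : 𝒯.ncard ≤ Nat.card C := by
    have h1 := Subgroup.card_mul_index C
    rw [hCidx] at h1
    have h2 : 𝒯.ncard ≤ ((C : Set Q)ᶜ).ncard := by
      refine le_trans (Set.ncard_le_ncard (t := Subtype.val '' ((C : Set Q)ᶜ)) ?_)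
        (Set.ncard_image_le (Set.toFinite _))
      rintro g ⟨hg, hgC, -⟩
      exact ⟨⟨g, hg⟩, hgC, rfl⟩
    rw [Set.ncard_compl, ← Nat.card_coe_set_eq (C : Set Q)] at h2
    have : Nat.card (C : Set Q) = Nat.card C := rfl
    omega
  set S : Set V := {w | w ≠ 0 ∧ ∃ g ∈ 𝒯, g • w = w} with hS
  have hSinv : ∀ n ∈ N, ∀ w ∈ S, n • w ∈ S := by
    rintro n hn w ⟨hw0, g, ⟨hgQ, hgC, hgu⟩, hgw⟩
    have hfix : (n * g * n⁻¹) • n • w = n • w := by
      rw [mul_smul, mul_smul, inv_smul_smul, hgw]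
    refine ⟨fun h0 => hw0 (by simpa [smul_eq_zero_iff_eq] using h0), n * g * n⁻¹,
      ⟨hnorm n hn g hgQ, fun hC' => ?_, ?_⟩, hfix⟩
    · have h1 := hCfree _ hC' (n • w) (fun h0 => hw0 (by simpa [smul_eq_zero_iff_eq] using h0)) hfix
      have hg1 : g = 1 := by
        have : n * g * n⁻¹ = 1 := congrArg Subtype.val h1
        rwa [conj_eq_one_iff] at this
      subst hg1
      exact hgC C.one_mem
    · rw [← hgu]
      refine Nat.card_congr
        { toFun := fun a => ⟨n⁻¹ • (a : V), hzpow g _ ?_⟩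
          invFun := fun a => ⟨n • (a : V), hzpow _ _ ?_⟩
          left_inv := fun a => Subtype.ext (smul_inv_smul n (a : V))
          right_inv := fun a => Subtype.ext (inv_smul_smul n (a : V)) }
      · have := a.2 _ (mem_zpowers _)
        rw [mul_smul, mul_smul] at this
        conv_rhs => rw [← this, inv_smul_smul]
      · rw [mul_smul, mul_smul, inv_smul_smul, a.2 g (mem_zpowers g)]
  obtain ⟨w, hw, hw0'⟩ : ∃ w ∈ fix V (zpowers t : Set A), w ≠ 0 := by
    by_contra hno
    push Not at hno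
    rw [hu, (AddSubgroup.eq_bot_iff_forall _).2 hno, AddSubgroup.card_bot] at hu2
    omega
  have htC : (⟨t, htQ⟩ : Q) ∉ C := fun hm =>
    ht1 (congrArg Subtype.val (hCfree _ hm w hw0' (hw t (mem_zpowers t))))
  have hwS : w ∈ S := ⟨hw0', t, ⟨htQ, htC, rfl⟩, hw t (mem_zpowers t)⟩
  have hbound := orbit_bound B N Q hN hB.fpf hQN hQB hSinv hwS hw0'
  have hrel : Nat.card C ≤ (stabilizer A w).relIndex Q := by
    rw [← card_orbit_eq_relIndex]
    refine Nat.card_le_card_of_injective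
      (fun c : C => (⟨((c : Q) : A) • w, (c : Q), rfl⟩ : orbit Q w)) ?_
    intro a b hab
    have h1 : ((a : Q) : A) • w = ((b : Q) : A) • w := congrArg Subtype.val hab
    have h2 := hCfree ((b : Q)⁻¹ * (a : Q)) (mul_mem (inv_mem b.2) a.2) w hw0' (by
      rw [Subgroup.coe_mul, Subgroup.coe_inv, mul_smul, h1, inv_smul_smul])
    exact Subtype.ext (inv_mul_eq_one.1 h2).symm
  have hScard : Nat.card S ≤ 𝒯.ncard * (u - 1) := by
    let fF : Finset A := 𝒯.toFinite.toFinset
    have hsub : S ⊆ ⋃ g ∈ fF, ((fix V (zpowers g : Set A) : Set V) \ {0}) := by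
      rintro a ⟨ha0, g, hg, hga⟩
      exact Set.mem_iUnion₂.2 ⟨g, (Set.Finite.mem_toFinset _).2 hg, hzpow g a hga, ha0⟩
    rw [Nat.card_coe_set_eq]
    refine le_trans (Set.ncard_le_ncard hsub) (le_trans (Finset.set_ncard_biUnion_le fF _) ?_)
    rw [Set.ncard_eq_toFinset_card 𝒯, ← smul_eq_mul]
    refine Finset.sum_le_card_nsmul fF _ _ fun g hg => ?_
    rw [Set.ncard_sdiff (Set.singleton_subset_iff.2 (zero_mem _)), Set.ncard_singleton]
    refine Nat.sub_le_sub_right (le_of_eq ?_) 1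
    obtain ⟨_, _, hgu⟩ := (Set.Finite.mem_toFinset _).1 hg
    rw [← hgu]
    exact (Nat.card_coe_set_eq _).symm
  have hmain : B.index * Nat.card C ≤ Nat.card C * (u - 1) :=
    le_trans (Nat.mul_le_mul_left _ hrel)
      (hbound.trans (hScard.trans (Nat.mul_le_mul_right _ h𝒯card)))
  rw [mul_comm B.index] at hmain
  have hk := Nat.le_of_mul_le_mul_left hmain Nat.card_pos
  have h3 : (B.index + 1) ^ 2 ≤ u ^ 2 := Nat.pow_le_pow_left (by omega) 2
  exact absurd hB.big (not_lt.2 (h3.trans hut))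

end Cfsg.Agent.DerIdx
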