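import Cfsg.Agent.DerIdx.Fpf

/-!
Invariant elementary abelian subgroups are cyclic.
-/

set_option autoImplicit false
set_option linter.style.haveILetI false

namespace Cfsg.Agent.DerIdx

open Subgroup MulAction

variable {A V : Type*} [Group A] [Finite A] [AddCommGroup V] [Finite V] [DistribMulAction A V]

theorem two_mul_sq_le {m q : ℕ} (hm : 2 ≤ m) (hq : 2 ≤ q) :
    (m * (q - 1) + 2) ^ 2 ≤ 4 * q ^ m := by
  obtain ⟨v, rfl⟩ : ∃ v, q = v + 1 := ⟨q - 1, by omega⟩
  simp only [Nat.add_sub_cancel]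
  induction m, hm using Nat.le_induction with
  | base => nlinarith
  | succ m hm ih =>
    obtain ⟨a, ha⟩ : ∃ a, m * v + 2 = a := ⟨_, rfl⟩
    have h2 : 2 * v + 2 ≤ a := ha ▸ Nat.add_le_add_right (Nat.mul_le_mul_right v hm) 2
    have h3 : 2 * a + v ≤ a * a := by nlinarith
    have h4 : v * (2 * a + v) ≤ v * (a * a) := Nat.mul_le_mul_left v h3
    calc ((m + 1) * v + 2) ^ 2 ≤ (v + 1) * (m * v + 2) ^ 2 := by
          rw [show (m + 1) * v + 2 = a + v by rw [← ha]; ring, ha]; nlinarith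
      _ ≤ (v + 1) * (4 * (v + 1) ^ m) := Nat.mul_le_mul_left _ ih
      _ = 4 * (v + 1) ^ (m + 1) := by ring

/-- An elementary abelian subgroup of `B` normalised by a covering subgroup containing it has
order at most `p`, and acts without non-trivial fixed vectors unless trivial. -/
theorem card_le_of_invariant {B N U : Subgroup A} [B.Normal] [FaithfulSMul A V] (hB : Big V B)
    {r e p : ℕ} (hr : r.Prime) (hV : Nat.card V = r ^ e) (hp : p.Prime)
    (hcop : p.Coprime (Nat.card V)) (hN : N ⊔ B = ⊤) (hUN : U ≤ N) (hUB : U ≤ B)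
    (hnorm : ∀ n ∈ N, ∀ u ∈ U, n * u * n⁻¹ ∈ U) (hpow : ∀ u ∈ U, u ^ p = 1)
    (hcomm : ∀ a ∈ U, ∀ b ∈ U, Commute a b) :
    Nat.card U ≤ p ∧ (U ≠ ⊥ → fix V (U : Set A) = ⊥) := by
  classical
  haveI : Fact p.Prime := ⟨hp⟩
  have hinvN : ∀ Y : Subgroup A, (∀ n ∈ N, ∀ y ∈ Y, n * y * n⁻¹ ∈ Y) →
      fix V (Y : Set A) = ⊥ ∨ Y = ⊥ := by
    intro Y hY
    rcases hB.irreducible hr hV N hN (fix V (Y : Set A)) (fun g hg v hv y hy => by
      have hm : g⁻¹ * y * g ∈ Y := by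
        have := hY g⁻¹ (inv_mem hg) y hy
        rwa [inv_inv] at this
      have h1 := hv _ hm
      calc y • g • v = g • (g⁻¹ * y * g) • v := by simp [mul_smul]
        _ = g • v := by rw [h1]) with h | h
    · exact Or.inl h
    · refine Or.inr ((Subgroup.eq_bot_iff_forall _).2 fun y hy => eq_of_smul_eq_smul fun v : V => ?_)
      rw [one_smul]
      exact (h ▸ AddSubgroup.mem_top v : v ∈ fix V (Y : Set A)) y hy
  have hUfix : U ≠ ⊥ → fix V (U : Set A) = ⊥ := fun hne => (hinvN U hnorm).resolve_right hne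
  refine ⟨?_, hUfix⟩
  by_cases hUb : U = ⊥
  · subst hUb
    simp [hp.one_lt.le]
  have hV1 : (⊤ : AddSubgroup V) ≠ ⊥ := by
    intro ht
    refine hUb ((Subgroup.eq_bot_iff_forall _).2 fun y hy => eq_of_smul_eq_smul fun v : V => ?_)
    have hv : v = 0 := (AddSubgroup.mem_bot).1 (ht ▸ AddSubgroup.mem_top v)
    rw [hv, smul_zero, smul_zero]
  -- a subgroup of `U` maximal with a fixed vector
  obtain ⟨⟨Y, hYU, hYf⟩, hYmax⟩ : ∃ Y : {Y : Subgroup A // Y ≤ U ∧ fix V (Y : Set A) ≠ ⊥},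
      ∀ Z : {Y : Subgroup A // Y ≤ U ∧ fix V (Y : Set A) ≠ ⊥}, Nat.card Z.1 ≤ Nat.card Y.1 := by
    haveI : Nonempty {Y : Subgroup A // Y ≤ U ∧ fix V (Y : Set A) ≠ ⊥} := by
      refine ⟨⟨⊥, bot_le, fun hb => hV1 ((AddSubgroup.eq_bot_iff_forall _).2 fun v _ => ?_)⟩⟩
      exact (AddSubgroup.eq_bot_iff_forall _).1 hb v fun y hy => by
        rw [Subgroup.mem_bot.1 hy, one_smul]
    exact Finite.exists_max fun Y : {Y : Subgroup A // Y ≤ U ∧ fix V (Y : Set A) ≠ ⊥} => Nat.card Y.1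
  simp only at hYmax
  set W := fix V (Y : Set A) with hW
  have hext : ∀ u ∈ U, u ∉ Y → ∀ v ∈ W, u • v = v → v = 0 := by
    intro u hu huY v hv huv
    by_contra hv0
    have hlt : Y < Y ⊔ zpowers u :=
      lt_of_le_of_ne le_sup_left fun he => huY (he ▸ mem_sup_right (mem_zpowers u))
    have hle : Nat.card ↥(Y ⊔ zpowers u) ≤ Nat.card Y :=
      hYmax ⟨_, sup_le hYU (zpowers_le.2 hu), fun hb => hv0
        ((AddSubgroup.eq_bot_iff_forall _).1 hb v
          (show (Y ⊔ zpowers u : Subgroup A) ≤ stabilizer A v from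
            sup_le (fun y hy => hv y hy) (zpowers_le.2 huv)))⟩
    exact hlt.ne (Subgroup.eq_of_le_of_card_ge hlt.le hle)
  have hWinv : ∀ u ∈ U, ∀ v ∈ W, u • v ∈ W := fun u hu v hv y hy => by
    rw [← mul_smul, (hcomm y (hYU hy) u hu).eq, mul_smul, hv y hy]
  have hgen : ∀ u ∈ U, u ∉ Y → U ≤ Y ⊔ zpowers u := by
    intro u hu huY g hg
    by_cases hgY : g ∈ Y
    · exact mem_sup_left hgY
    obtain ⟨i, v, hv, hv0, hfix⟩ := exists_fixed_pair hp hcop (hpow g hg) (hpow u hu)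
      (hcomm g hg u hu) W (fun v hv => hext u hu huY v hv) hYf (hWinv g hg) (hWinv u hu)
    have hmem : g * u ^ i ∈ Y := by
      by_contra hn
      exact hv0 (hext _ (mul_mem hg (pow_mem hu i)) hn v hv hfix)
    have : g = g * u ^ i * (u ^ i)⁻¹ := by group
    rw [this]
    exact mul_mem (mem_sup_left hmem) (mem_sup_right (inv_mem (pow_mem (mem_zpowers u) i)))
  have hYne : ¬ U ≤ Y := fun h => hYf (eq_bot_iff.2 fun v hv =>
    (hUfix hUb) ▸ fun u hu => hv u (h hu))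
  obtain ⟨u0, hu0, hu0Y⟩ := SetLike.not_le_iff_exists.1 hYne
  have hcardU : Nat.card U ≤ Nat.card Y * p := by
    let H : Subgroup A :=
      { carrier := {g | ∃ y ∈ Y, ∃ w ∈ zpowers u0, g = y * w}
        one_mem' := ⟨1, Y.one_mem, 1, one_mem _, (one_mul 1).symm⟩
        mul_mem' := by
          rintro a b ⟨y, hy, w, hw, rfl⟩ ⟨y', hy', w', hw', rfl⟩
          refine ⟨y * y', mul_mem hy hy', w * w', mul_mem hw hw', ?_⟩
          have : Commute w y' := hcomm w ((zpowers_le.2 hu0) hw) y' (hYU hy')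
          calc y * w * (y' * w') = y * (w * y') * w' := by group
            _ = y * (y' * w) * w' := by rw [this.eq]
            _ = y * y' * (w * w') := by group
        inv_mem' := by
          rintro a ⟨y, hy, w, hw, rfl⟩
          refine ⟨y⁻¹, inv_mem hy, w⁻¹, inv_mem hw, ?_⟩
          rw [mul_inv_rev]
          exact (hcomm w⁻¹ ((zpowers_le.2 hu0) (inv_mem hw)) y⁻¹ (hYU (inv_mem hy))).eq }
    have hUH : U ≤ H := le_trans (hgen u0 hu0 hu0Y) (sup_le
      (fun y hy => ⟨y, hy, 1, one_mem _, (mul_one y).symm⟩)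
      (fun w hw => ⟨1, Y.one_mem, w, hw, (one_mul w).symm⟩))
    refine le_trans (Subgroup.card_le_of_le hUH) (le_trans (Nat.card_le_card_of_surjective
      (fun q : Y × zpowers u0 => (⟨q.1 * q.2, q.1, q.1.2, q.2, q.2.2, rfl⟩ : H)) ?_) ?_)
    · rintro ⟨g, y, hy, w, hw, rfl⟩
      exact ⟨(⟨y, hy⟩, ⟨w, hw⟩), rfl⟩
    · rw [Nat.card_prod, Nat.card_zpowers]
      exact Nat.mul_le_mul_left _ (orderOf_le_of_pow_eq_one hp.pos (hpow u0 hu0))
  -- the family of conjugates
  let 𝒴 : Set (Subgroup A) := {Z | ∃ n ∈ N, Z = Y.map (MulAut.conj n).toMonoidHom}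
  have hfixc : ∀ Z ∈ 𝒴, Nat.card (fix V (Z : Set A)) = Nat.card W := by
    rintro Z ⟨n, -, rfl⟩
    refine Nat.card_congr
      { toFun := fun v => ⟨n⁻¹ • (v : V), fun x hx => ?_⟩
        invFun := fun v => ⟨n • (v : V), ?_⟩
        left_inv := fun v => Subtype.ext (smul_inv_smul n (v : V))
        right_inv := fun v => Subtype.ext (inv_smul_smul n (v : V)) }
    · have := v.2 (n * x * n⁻¹) ⟨x, hx, rfl⟩
      rw [mul_smul, mul_smul] at this
      conv_rhs => rw [← this, inv_smul_smul]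
    · rintro _ ⟨x, hx, rfl⟩
      simp [mul_smul, v.2 x hx]
  have hle : ∀ Z ∈ 𝒴, Z ≤ U ∧ Nat.card Z = Nat.card Y := by
    rintro Z ⟨n, hn, rfl⟩
    refine ⟨?_, Subgroup.card_map_of_injective (MulEquiv.injective _)⟩
    rintro _ ⟨y, hy, rfl⟩
    exact hnorm n hn y (hYU hy)
  have hY𝒴 : Y ∈ 𝒴 := ⟨1, N.one_mem, by ext g; simp [Subgroup.mem_map]⟩
  set m := 𝒴.ncard with hm
  rcases Nat.lt_or_ge m 2 with hm2 | hm2
  · -- a single member: invariant, hence trivial
    have huniq : ∀ Z ∈ 𝒴, Z = Y := fun Z hZ =>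
      (Set.ncard_le_one_iff (Set.toFinite _)).1 (by omega) hZ hY𝒴
    have hYbot : Y = ⊥ := (hinvN Y (fun n hn y hy => by
      have h1 := huniq _ ⟨n, hn, rfl⟩
      exact h1 ▸ ⟨y, hy, rfl⟩)).resolve_left hYf
    rw [hYbot, Subgroup.card_bot, one_mul] at hcardU
    exact hcardU
  · exfalso
    haveI : Fintype 𝒴 := Fintype.ofFinite _
    set q := Nat.card W with hq
    have hqm : q ^ m ≤ Nat.card V := by
      refine le_trans (le_of_eq ?_) (prod_fix_le (V := V) U (fun a ha b hb => (hcomm a ha b hb).eq)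
        (hUfix hUb) (fun Z : 𝒴 => (Z : Subgroup A)) (fun Z => (hle Z Z.2).1) ?_ ?_)
      · rw [Finset.prod_congr rfl (fun (Z : 𝒴) _ => hfixc Z Z.2), Finset.prod_const,
          Finset.card_univ, ← Nat.card_eq_fintype_card, Nat.card_coe_set_eq]
      · intro Z Z' hne
        obtain ⟨⟨hZU, hZc⟩, hZ'U, hZ'c⟩ := hle Z Z.2, hle Z' Z'.2
        have hlt : Nat.card (Z : Subgroup A) < Nat.card ↥((Z : Subgroup A) ⊔ Z') := by
          refine lt_of_le_of_ne (Subgroup.card_le_of_le le_sup_left) fun he => hne (Subtype.ext ?_)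
          have h1 := Subgroup.eq_of_le_of_card_ge (le_sup_left (b := (Z' : Subgroup A))) he.ge
          exact (Subgroup.eq_of_le_of_card_ge (h1 ▸ le_sup_right : (Z' : Subgroup A) ≤ Z)
            (by rw [hZc, hZ'c])).symm
        have hsupU : (Z : Subgroup A) ⊔ Z' ≤ U := sup_le hZU hZ'U
        refine (Subgroup.eq_of_le_of_card_ge hsupU ?_).ge
        obtain ⟨i, hi⟩ : ∃ i, Nat.card ↥((Z : Subgroup A) ⊔ Z') = Nat.card (Z : Subgroup A) * i :=
          Subgroup.card_dvd_of_le le_sup_left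
        have hpi : p ≤ i := by
          have hd1 : Nat.card ↥((Z : Subgroup A) ⊔ Z') ∣ Nat.card U := Subgroup.card_dvd_of_le hsupU
          obtain ⟨t, ht⟩ : ∃ t, Nat.card U = p ^ t :=
            IsPGroup.iff_card.1 fun g => ⟨1, by rw [pow_one]; exact Subtype.ext (hpow g g.2)⟩
          have hid : i ∣ p ^ t := ht ▸ (Dvd.intro_left _ hi.symm).trans hd1
          obtain ⟨t', -, ht'⟩ := (Nat.dvd_prime_pow hp).1 hid
          have ht'0 : t' ≠ 0 := by
            rintro rfl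
            rw [ht', pow_zero, mul_one] at hi
            omega
          rw [ht']
          exact Nat.le_self_pow ht'0 p
        rw [hi, hZc]
        exact hcardU.trans (Nat.mul_le_mul_left _ hpi)
      · intro Z
        obtain ⟨t, ht⟩ := (IsPGroup.iff_card (p := p) (G := (Z : Subgroup A))).1 fun g =>
          ⟨1, by rw [pow_one]; exact Subtype.ext (hpow g ((hle Z Z.2).1 g.2))⟩
        rw [ht]
        exact Nat.Coprime.pow_left _ hcop
    -- the orbit bound
    set S : Set V := {v | v ≠ 0 ∧ ∃ Z ∈ 𝒴, v ∈ fix V (Z : Set A)} with hS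
    have hSinv : ∀ g ∈ N, ∀ v ∈ S, g • v ∈ S := by
      rintro g hg v ⟨hv0, _, ⟨n, hn, rfl⟩, hv⟩
      refine ⟨fun h0 => hv0 (by simpa [smul_eq_zero_iff_eq] using h0),
        Y.map (MulAut.conj (g * n)).toMonoidHom, ⟨g * n, mul_mem hg hn, rfl⟩, ?_⟩
      rintro _ ⟨y, hy, rfl⟩
      have := hv (n * y * n⁻¹) ⟨y, hy, rfl⟩
      simp only [MulEquiv.coe_toMonoidHom, MulAut.conj_apply, mul_inv_rev]
      calc (g * n * y * (n⁻¹ * g⁻¹)) • g • v = g • (n * y * n⁻¹) • v := by simp [mul_smul]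
        _ = g • v := by rw [this]
    obtain ⟨w, hw, hw0⟩ : ∃ w ∈ W, w ≠ 0 := by
      by_contra hno
      push Not at hno
      exact hYf ((AddSubgroup.eq_bot_iff_forall _).2 hno)
    have hbound := orbit_bound B N U hN hB.fpf hUN hUB hSinv (v := w) ⟨hw0, Y, hY𝒴, hw⟩ hw0
    have h2 : 2 ≤ (stabilizer A w).relIndex U := by
      by_contra hlt
      have h0 : (stabilizer A w).relIndex U ≠ 0 := Subgroup.index_ne_zero_of_finite
      have h1 : (stabilizer A w).relIndex U = 1 := by omega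
      exact hw0 (hext u0 hu0 hu0Y w hw (Subgroup.relIndex_eq_one.1 h1 hu0))
    have hScard : Nat.card S ≤ m * (q - 1) := by
      let fF : Finset (Subgroup A) := 𝒴.toFinite.toFinset
      have hsub : S ⊆ ⋃ X ∈ fF, ((fix V (X : Set A) : Set V) \ {0}) := by
        rintro v ⟨hv0, X, hX, hvX⟩
        exact Set.mem_iUnion₂.2 ⟨X, (Set.Finite.mem_toFinset _).2 hX, hvX, hv0⟩
      rw [Nat.card_coe_set_eq]
      refine le_trans (Set.ncard_le_ncard hsub) (le_trans (Finset.set_ncard_biUnion_le fF _) ?_)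
      rw [hm, Set.ncard_eq_toFinset_card 𝒴, ← smul_eq_mul]
      refine Finset.sum_le_card_nsmul fF _ _ fun X hX => ?_
      rw [Set.ncard_sdiff (Set.singleton_subset_iff.2 (zero_mem _)), Set.ncard_singleton]
      refine Nat.sub_le_sub_right (le_of_eq ?_) 1
      rw [← hfixc X ((Set.Finite.mem_toFinset _).1 hX)]
      exact (Nat.card_coe_set_eq _).symm
    have hk : B.index * 2 ≤ m * (q - 1) :=
      le_trans (Nat.mul_le_mul_left _ h2) (hbound.trans hScard)
    have hq2 : 2 ≤ q := by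
      rw [hq, Nat.succ_le_iff, Finite.one_lt_card_iff_nontrivial]
      exact ⟨⟨⟨w, hw⟩, 0, fun he => hw0 (congrArg Subtype.val he)⟩⟩
    have h3 : (2 * (B.index + 1)) ^ 2 ≤ 4 * Nat.card V :=
      calc (2 * (B.index + 1)) ^ 2 ≤ (m * (q - 1) + 2) ^ 2 := Nat.pow_le_pow_left (by omega) 2
        _ ≤ 4 * q ^ m := two_mul_sq_le hm2 hq2
        _ ≤ 4 * Nat.card V := Nat.mul_le_mul_left _ hqm
    have := hB.big
    rw [mul_pow] at h3
    omega

end Cfsg.Agent.DerIdx
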