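import Cfsg.Agent.DerIdx.Fpf
import Cfsg.Agent.SolvBound.Sym

/-!
Class two subgroups with fixed-point-free centre in a linear group.
-/

set_option autoImplicit false
set_option linter.style.haveILetI false

namespace Cfsg.Agent.DerIdx

open Subgroup
open scoped commutatorElement

variable {A V : Type*} [Group A] [Finite A] [AddCommGroup V] [Finite V] [DistribMulAction A V]

/-- `E` is a class two group with commutators in `⟨z⟩`, `z` fixed point free of order `p`. -/
structure Ext (V : Type*) [AddCommGroup V] [DistribMulAction A V] (p : ℕ) (E : Subgroup A)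
    (z : A) : Prop where
  prime : p.Prime
  cop : p.Coprime (Nat.card V)
  mem : z ∈ E
  zord : orderOf z = p
  zf : ∀ v : V, z • v = v → v = 0
  zc : ∀ e ∈ E, Commute z e
  comm : ∀ e ∈ E, ∀ f ∈ E, ⁅e, f⁆ ∈ zpowers z
  pow : ∀ e ∈ E, e ^ p ∈ zpowers z
  odd : p ≠ 2 → ∀ e ∈ E, e ^ p = 1
  cent : ∀ e ∈ E, e ^ p = 1 → (∀ f ∈ E, Commute e f) → e ∈ zpowers z

variable {p : ℕ} {E : Subgroup A} {z : A}

/-- An elementary abelian subgroup of `E` with a non-zero fixed vector. -/
structure Good (V : Type*) [AddCommGroup V] [DistribMulAction A V] (p : ℕ) (E X : Subgroup A) :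
    Prop where
  le : X ≤ E
  pow : ∀ x ∈ X, x ^ p = 1
  comm : ∀ x ∈ X, ∀ y ∈ X, Commute x y
  fixed : fix V (X : Set A) ≠ ⊥

/-- `X⟨z⟩` for `z` centralising `X`. -/
def hat (X : Subgroup A) (z : A) (hz : ∀ x ∈ X, Commute z x) : Subgroup A where
  carrier := {g | ∃ x ∈ X, ∃ w ∈ zpowers z, g = x * w}
  one_mem' := ⟨1, X.one_mem, 1, one_mem _, (one_mul 1).symm⟩
  mul_mem' := by
    rintro a b ⟨x, hx, w, hw, rfl⟩ ⟨x', hx', w', hw', rfl⟩
    refine ⟨x * x', X.mul_mem hx hx', w * w', mul_mem hw hw', ?_⟩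
    obtain ⟨i, rfl⟩ := mem_zpowers_iff.1 hw
    have : Commute (z ^ i) x' := (hz x' hx').zpow_left i
    calc x * z ^ i * (x' * w') = x * (z ^ i * x') * w' := by group
      _ = x * (x' * z ^ i) * w' := by rw [this.eq]
      _ = x * x' * (z ^ i * w') := by group
  inv_mem' := by
    rintro a ⟨x, hx, w, hw, rfl⟩
    refine ⟨x⁻¹, X.inv_mem hx, w⁻¹, inv_mem hw, ?_⟩
    obtain ⟨i, rfl⟩ := mem_zpowers_iff.1 hw
    have : Commute (z ^ i) x := (hz x hx).zpow_left i
    rw [mul_inv_rev]
    exact (this.inv_inv).eq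

omit [Finite A] in
theorem le_hat {X : Subgroup A} (hz : ∀ x ∈ X, Commute z x) : X ≤ hat X z hz :=
  fun x hx => ⟨x, hx, 1, one_mem _, (mul_one x).symm⟩

omit [Finite A] in
theorem mem_hat_self {X : Subgroup A} (hz : ∀ x ∈ X, Commute z x) : z ∈ hat X z hz :=
  ⟨1, X.one_mem, z, mem_zpowers z, (one_mul z).symm⟩

namespace Ext

variable (h : Ext V p E z)

include h

omit [Finite A] [Finite V] in
theorem zpowers_le_E : zpowers z ≤ E := Subgroup.zpowers_le.2 h.mem

omit [Finite A] [Finite V] in
theorem zpowers_comm {w e : A} (hw : w ∈ zpowers z) (he : e ∈ E) : Commute w e := by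
  obtain ⟨i, rfl⟩ := mem_zpowers_iff.1 hw
  exact (h.zc e he).zpow_left i

omit [Finite A] [Finite V] in
theorem card_zpowers : Nat.card (zpowers z) = p := by rw [Nat.card_zpowers, h.zord]

omit [Finite A] [Finite V] in
theorem ne_one : z ≠ 1 := fun hz => by
  have := h.zord
  rw [hz, orderOf_one] at this
  exact h.prime.one_lt.ne this

omit [Finite A] [Finite V] in
/-- A non-trivial element of `⟨z⟩` generates it. -/
theorem z_mem_of_mem {H : Subgroup A} {w : A} (hw : w ∈ zpowers z) (hw1 : w ≠ 1) (hwH : w ∈ H) :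
    z ∈ H := by
  haveI : Fact p.Prime := ⟨h.prime⟩
  have he : Subgroup.zpowers w = zpowers z := by
    have hdvd : Nat.card (Subgroup.zpowers w) ∣ p := h.card_zpowers ▸
      Subgroup.card_dvd_of_le ((Subgroup.zpowers_le).2 hw)
    haveI : Finite (zpowers z) := Nat.finite_of_card_ne_zero (h.card_zpowers ▸ h.prime.ne_zero)
    refine Subgroup.eq_of_le_of_card_ge ((Subgroup.zpowers_le).2 hw) ?_
    rcases (Nat.dvd_prime h.prime).1 hdvd with h1 | h1
    · exact absurd (by rwa [Nat.card_zpowers, orderOf_eq_one_iff] at h1) hw1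
    · rw [h.card_zpowers, h1]
  exact Subgroup.zpowers_le.2 hwH (he ▸ mem_zpowers z)

omit [Finite A] [Finite V] in
theorem inter_eq_one {X : Subgroup A} (hX : Good V p E X) {w : A} (hwX : w ∈ X)
    (hw : w ∈ zpowers z) : w = 1 := by
  by_contra hw1
  have hz : z ∈ X := h.z_mem_of_mem hw hw1 hwX
  exact hX.fixed ((AddSubgroup.eq_bot_iff_forall _).2 fun v hv => h.zf v (hv z hz))

omit [Finite A] [Finite V] in
theorem commX {X : Subgroup A} (hX : Good V p E X) : ∀ x ∈ X, Commute z x :=
  fun x hx => h.zc x (hX.le hx)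

omit [Finite A] [Finite V] in
theorem hat_le {X : Subgroup A} (hX : Good V p E X) : hat X z (h.commX hX) ≤ E := by
  rintro g ⟨x, hx, w, hw, rfl⟩
  exact E.mul_mem (hX.le hx) (h.zpowers_le_E hw)

omit [Finite A] [Finite V] in
theorem hat_comm {X : Subgroup A} (hX : Good V p E X) {g f : A}
    (hg : g ∈ hat X z (h.commX hX)) (hf : f ∈ hat X z (h.commX hX)) : Commute g f := by
  obtain ⟨x, hx, w, hw, rfl⟩ := hg
  obtain ⟨x', hx', w', hw', rfl⟩ := hf
  exact Commute.mul_left
    ((hX.comm x hx x' hx').mul_right (h.zpowers_comm hw' (hX.le hx)).symm)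
    ((h.zpowers_comm hw (hX.le hx')).mul_right (h.zpowers_comm hw (h.zpowers_le_E hw')))

omit [Finite A] [Finite V] in
theorem hat_pow {X : Subgroup A} (hX : Good V p E X) {g : A}
    (hg : g ∈ hat X z (h.commX hX)) : g ^ p = 1 := by
  obtain ⟨x, hx, w, hw, rfl⟩ := hg
  obtain ⟨i, rfl⟩ := mem_zpowers_iff.1 hw
  rw [(h.zpowers_comm (zpow_mem (mem_zpowers z) i) (hX.le hx)).symm.mul_pow, hX.pow x hx, one_mul,
    ← zpow_natCast, ← zpow_mul, mul_comm, zpow_mul, zpow_natCast, ← h.zord, pow_orderOf_eq_one,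
    one_zpow]

omit [Finite A] [Finite V] in
theorem card_hat {X : Subgroup A} (hX : Good V p E X) :
    Nat.card (hat X z (h.commX hX)) = Nat.card X * p := by
  have hz := h.card_zpowers
  suffices Nat.card (X × zpowers z) = Nat.card (hat X z (h.commX hX)) by
    rw [← this, Nat.card_prod, hz]
  refine Nat.card_eq_of_bijective
    (fun q : X × zpowers z => (⟨q.1 * q.2, q.1, q.1.2, q.2, q.2.2, rfl⟩ : hat X z (h.commX hX)))
    ⟨?_, ?_⟩
  · rintro ⟨x, w⟩ ⟨x', w'⟩ he
    have he' : (x : A) * w = x' * w' := congrArg Subtype.val he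
    have h1 : ((x' : A))⁻¹ * x = w' * (w : A)⁻¹ := by
      calc ((x' : A))⁻¹ * x = (x' : A)⁻¹ * ((x : A) * w) * (w : A)⁻¹ := by group
        _ = (x' : A)⁻¹ * ((x' : A) * w') * (w : A)⁻¹ := by rw [he']
        _ = w' * (w : A)⁻¹ := by group
    have h2 : ((x' : A))⁻¹ * x = 1 := h.inter_eq_one hX (mul_mem (inv_mem x'.2) x.2)
      (h1 ▸ mul_mem w'.2 (inv_mem w.2))
    have hx : (x : A) = x' := (inv_mul_eq_one.1 h2).symm
    rw [hx] at he'
    exact Prod.ext (Subtype.ext hx) (Subtype.ext (mul_left_cancel he'))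
  · rintro ⟨g, x, hx, w, hw, rfl⟩
    exact ⟨(⟨x, hx⟩, ⟨w, hw⟩), rfl⟩

omit [Finite A] [Finite V] in
/-- Commutators are multiplicative. -/
theorem comm_mul_right {e y y' : A} (he : e ∈ E) (hy : y ∈ E) (hy' : y' ∈ E) :
    ⁅e, y * y'⁆ = ⁅e, y⁆ * ⁅e, y'⁆ := by
  rw [commutatorElement_mul_right_eq_mul_conj]
  have := (h.zpowers_comm (h.comm e he y' hy') hy).eq
  rw [mul_assoc ⁅e, y⁆ y, ← this, mul_assoc, mul_assoc, mul_inv_cancel, mul_one]

omit [Finite A] [Finite V] in
theorem comm_mul_left {e e' y : A} (he : e ∈ E) (he' : e' ∈ E) (hy : y ∈ E) :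
    ⁅e * e', y⁆ = ⁅e, y⁆ * ⁅e', y⁆ := by
  rw [← commutatorElement_inv, h.comm_mul_right hy he he', mul_inv_rev, commutatorElement_inv,
    commutatorElement_inv]
  exact (h.zpowers_comm (h.comm e' he' y hy) (h.zpowers_le_E (h.comm e he y hy))).eq

/-- The centraliser in `E` of an elementary subgroup with a fixed vector has index equal to the
order of that subgroup. -/
theorem card_centralizer_mul {Y : Subgroup A} (hY : Good V p E Y) :
    Nat.card ↥(E ⊓ centralizer (Y : Set A)) * Nat.card Y = Nat.card E := by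
  classical
  letI : CommGroup (zpowers z) := IsCyclic.commGroup
  letI : CommGroup Y :=
    { (inferInstance : Group Y) with mul_comm := fun a b => Subtype.ext (hY.comm a a.2 b b.2).eq }
  let φ : E →* (Y →* zpowers z) :=
    { toFun := fun e =>
        { toFun := fun y => ⟨⁅(e : A), (y : A)⁆, h.comm e e.2 y (hY.le y.2)⟩
          map_one' := Subtype.ext (commutatorElement_one_right _)
          map_mul' := fun y y' => Subtype.ext (h.comm_mul_right e.2 (hY.le y.2) (hY.le y'.2)) }
      map_one' := by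
        ext y
        exact commutatorElement_one_left _
      map_mul' := fun e e' => by
        ext y
        exact h.comm_mul_left e.2 e'.2 (hY.le y.2) }
  have hker : φ.ker = (E ⊓ centralizer (Y : Set A)).subgroupOf E := by
    ext e
    rw [MonoidHom.mem_ker, mem_subgroupOf, mem_inf, mem_centralizer_iff]
    constructor
    · intro he
      refine ⟨e.2, fun y hy => ?_⟩
      have := congrArg Subtype.val (DFunLike.congr_fun he ⟨y, hy⟩)
      exact (commutatorElement_eq_one_iff_mul_comm.1 this).symm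
    · rintro ⟨-, he⟩
      ext y
      exact commutatorElement_eq_one_iff_mul_comm.2 (he y y.2).symm
  haveI : Finite (Y →* zpowers z) := DFunLike.finite _
  have h1 : Nat.card φ.range ≤ Nat.card Y :=
    le_trans (Subgroup.card_le_card_group _) (SolvBound.card_monoidHom_le)
  let ev : Y →* (φ.range →* zpowers z) :=
    { toFun := fun y =>
        { toFun := fun f => (f : Y →* zpowers z) y
          map_one' := rfl
          map_mul' := fun f g => rfl }
      map_one' := by ext f; exact congrArg Subtype.val (map_one (f : Y →* zpowers z))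
      map_mul' := fun y y' => by
        ext f; exact congrArg Subtype.val (map_mul (f : Y →* zpowers z) y y') }
  haveI : Finite (φ.range →* zpowers z) := DFunLike.finite _
  have h2 : Nat.card Y ≤ Nat.card φ.range := by
    refine le_trans (Nat.card_le_card_of_injective ev ((injective_iff_map_eq_one ev).2 fun y hy => ?_))
      SolvBound.card_monoidHom_le
    refine Subtype.ext (h.inter_eq_one hY y.2 (h.cent y (hY.le y.2) (hY.pow y y.2) fun f hf => ?_))
    have := congrArg Subtype.val (DFunLike.congr_fun hy ⟨φ ⟨f, hf⟩, ⟨f, hf⟩, rfl⟩)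
    exact (commutatorElement_eq_one_iff_commute.1 this).symm
  have h3 := Subgroup.index_mul_card φ.ker
  rw [Subgroup.index_ker, hker,
    Nat.card_congr (subgroupOfEquivOfLe (inf_le_left : E ⊓ centralizer (Y : Set A) ≤ E)).toEquiv]
    at h3
  rw [← h3, le_antisymm h1 h2, mul_comm]

omit [Finite A] in
/-- Maximal good subgroups: the elements of order `p` centralising `X` lie in `X⟨z⟩`. -/
theorem mem_hat_of_max {j : ℕ} (hmax : ∀ Y : Subgroup A, Good V p E Y → Nat.card Y ≤ p ^ j)
    [Finite A] {X : Subgroup A} (hX : Good V p E X) (hXc : Nat.card X = p ^ j) {y : A}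
    (hy : y ∈ E ⊓ centralizer (X : Set A)) (hyp : y ^ p = 1) : y ∈ hat X z (h.commX hX) := by
  by_contra hnot
  have hyX : ∀ x ∈ X, Commute x y := fun x hx => mem_centralizer_iff.1 hy.2 x hx
  have hinv : ∀ g : A, (∀ x ∈ X, Commute x g) → ∀ v ∈ fix V (X : Set A), g • v ∈ fix V (X : Set A) :=
    fun g hg v hv x hx => by rw [← mul_smul, (hg x hx).eq, mul_smul, hv x hx]
  obtain ⟨i, v, hv, hv0, hfix⟩ := exists_fixed_pair h.prime h.cop hyp
    (h.zord ▸ pow_orderOf_eq_one z) (h.zc y hy.1).symm _ (fun v _ => h.zf v) hX.fixed (hinv y hyX)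
    (hinv z fun x hx => (h.commX hX x hx).symm)
  set y' := y * z ^ i with hy'
  have hy'E : y' ∈ E := E.mul_mem hy.1 (E.pow_mem h.mem i)
  have hy'X : ∀ x ∈ X, Commute x y' := fun x hx =>
    (hyX x hx).mul_right ((h.commX hX x hx).symm.pow_right i)
  have hy'p : y' ^ p = 1 := by
    rw [hy', ((h.zc y hy.1).symm.pow_right i).mul_pow, hyp, ← pow_mul, mul_comm i, pow_mul,
      ← h.zord, pow_orderOf_eq_one, one_pow, one_mul]
  have hy'nX : y' ∉ X := by
    intro hm
    refine hnot ⟨y', hm, (z ^ i)⁻¹, inv_mem (pow_mem (mem_zpowers z) i), ?_⟩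
    rw [hy']; group
  let Y : Subgroup A := closure ((X : Set A) ∪ {y'})
  have hYc : ∀ a ∈ (X : Set A) ∪ {y'}, ∀ b ∈ (X : Set A) ∪ {y'}, Commute a b := by
    rintro a (ha | rfl) b (hb | rfl)
    · exact hX.comm a ha b hb
    · exact hy'X a ha
    · exact (hy'X b hb).symm
    · exact Commute.refl _
  haveI := Subgroup.isMulCommutative_closure (G := A) (k := (X : Set A) ∪ {y'})
    (fun a ha b hb => (hYc a ha b hb).eq)
  have hYcomm : ∀ a ∈ Y, ∀ b ∈ Y, Commute a b := fun a ha b hb =>
    congrArg Subtype.val (mul_comm' (⟨a, ha⟩ : Y) ⟨b, hb⟩)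
  have hYgood : Good V p E Y := by
    refine ⟨(closure_le _).2 (Set.union_subset hX.le (Set.singleton_subset_iff.2 hy'E)), ?_,
      hYcomm, ?_⟩
    · intro a ha
      induction ha using Subgroup.closure_induction with
      | mem a ha =>
        rcases ha with ha | rfl
        · exact hX.pow a ha
        · exact hy'p
      | one => exact one_pow _
      | mul a b ha hb iha ihb => rw [(hYcomm a ha b hb).mul_pow, iha, ihb, one_mul]
      | inv a _ iha => rw [inv_pow, iha, inv_one]
    · intro hb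
      refine hv0 ((AddSubgroup.eq_bot_iff_forall _).1 hb v ?_)
      intro a ha
      induction ha using Subgroup.closure_induction with
      | mem a ha =>
        rcases ha with ha | rfl
        · exact hv a ha
        · exact hfix
      | one => exact one_smul _ _
      | mul a b _ _ iha ihb => rw [mul_smul, ihb, iha]
      | inv a _ iha => rw [inv_smul_eq_iff, iha]
  have hle : X ≤ Y := fun x hx => subset_closure (Or.inl hx)
  have heq : X = Y := Subgroup.eq_of_le_of_card_ge hle (hXc ▸ hmax Y hYgood)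
  exact hy'nX (heq ▸ subset_closure (Or.inr rfl))
where
  mul_comm' {M : Type _} [Mul M] [IsMulCommutative M] (a b : M) : a * b = b * a :=
    IsMulCommutative.is_comm.comm a b

end Ext

end Cfsg.Agent.DerIdx
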