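import Cfsg.Agent.DerIdx.ExtBasic

/-!
Counting maximal good subgroups.
-/

set_option autoImplicit false
set_option linter.style.haveILetI false
set_option linter.unusedSectionVars false

namespace Cfsg.Agent.DerIdx

open Subgroup MulAction
open scoped commutatorElement

variable {A V : Type*} [Group A] [Finite A] [AddCommGroup V] [Finite V] [DistribMulAction A V]
variable {p : ℕ} {E : Subgroup A} {z : A}

/-- Good subgroups of maximal order `p ^ j` with a prescribed number of fixed vectors. -/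
def fam (V : Type*) [AddCommGroup V] [DistribMulAction A V] (p : ℕ) (E : Subgroup A) (j u : ℕ) :
    Set (Subgroup A) :=
  {X | Good V p E X ∧ Nat.card X = p ^ j ∧ Nat.card (fix V (X : Set A)) = u}

/-- Candidates for extending `Y`. -/
def cand (p : ℕ) (E Y : Subgroup A) (z : A) : Set A :=
  {x | x ∈ E ⊓ centralizer (Y : Set A) ∧ x ^ p = 1 ∧ ∀ y ∈ Y, ∀ w ∈ zpowers z, x ≠ y * w}

theorem Good.mono {X Y : Subgroup A} (hX : Good V p E X) (h : Y ≤ X) : Good V p E Y :=
  ⟨h.trans hX.le, fun x hx => hX.pow x (h hx), fun x hx y hy => hX.comm x (h hx) y (h hy),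
    fun hb => hX.fixed (eq_bot_iff.2 fun v hv => hb ▸ fun a ha => hv a (h ha))⟩

theorem card_fix_conj (X : Subgroup A) (g : A) :
    Nat.card (fix V ((X.map (MulAut.conj g).toMonoidHom : Subgroup A) : Set A)) =
      Nat.card (fix V (X : Set A)) := by
  refine Nat.card_congr
    { toFun := fun v => ⟨g⁻¹ • (v : V), fun x hx => ?_⟩
      invFun := fun v => ⟨g • (v : V), ?_⟩
      left_inv := fun v => Subtype.ext (smul_inv_smul g (v : V))
      right_inv := fun v => Subtype.ext (inv_smul_smul g (v : V)) }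
  · have := v.2 (g * x * g⁻¹) ⟨x, hx, rfl⟩
    rw [mul_smul, mul_smul] at this
    conv_rhs => rw [← this, inv_smul_smul]
  · rintro _ ⟨x, hx, rfl⟩
    simp [mul_smul, v.2 x hx]

theorem Good.conj {X : Subgroup A} (hX : Good V p E X) {g : A}
    (hg : ∀ e ∈ E, g * e * g⁻¹ ∈ E) : Good V p E (X.map (MulAut.conj g).toMonoidHom) := by
  refine ⟨?_, ?_, ?_, fun hb => hX.fixed (AddSubgroup.card_eq_one.1 ?_)⟩
  · rintro _ ⟨x, hx, rfl⟩
    exact hg x (hX.le hx)
  · rintro _ ⟨x, hx, rfl⟩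
    rw [← map_pow, hX.pow x hx, map_one]
  · rintro _ ⟨x, hx, rfl⟩ _ ⟨y, hy, rfl⟩
    exact (hX.comm x hx y hy).map _
  · rw [← card_fix_conj X g, hb, AddSubgroup.card_bot]

namespace Ext

variable (h : Ext V p E z)

include h

theorem pow_fix_eq_one {g : A} (hg : g ∈ E) {v : V} (hv0 : v ≠ 0) (hgv : g • v = v) :
    g ^ p = 1 := by
  by_contra hne
  have hz : z ∈ stabilizer A v := h.z_mem_of_mem (h.pow g hg) hne (pow_mem hgv p)
  exact hv0 (h.zf v hz)

/-- A vector fixed by a maximal good subgroup has exactly that subgroup as stabiliser in `E`. -/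
theorem stab_eq {j : ℕ} (hmax : ∀ Y : Subgroup A, Good V p E Y → Nat.card Y ≤ p ^ j)
    {X : Subgroup A} (hX : Good V p E X) (hXc : Nat.card X = p ^ j) {v : V}
    (hv : v ∈ fix V (X : Set A)) (hv0 : v ≠ 0) : stabilizer A v ⊓ E = X := by
  refine le_antisymm ?_ (le_inf (fun x hx => hv x hx) hX.le)
  rintro g ⟨hgv, hgE⟩
  have hcomm : ∀ x ∈ X, x * g = g * x := by
    intro x hx
    by_contra hne
    have hc : ⁅x, g⁆ ∈ stabilizer A v := by
      rw [commutatorElement_def]
      exact mul_mem (mul_mem (mul_mem (hv x hx) hgv) (inv_mem (show x ∈ stabilizer A v from hv x hx)))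
        (inv_mem hgv)
    have hz : z ∈ stabilizer A v := h.z_mem_of_mem (h.comm x (hX.le hx) g hgE)
      (fun h1 => hne (commutatorElement_eq_one_iff_mul_comm.1 h1)) hc
    exact hv0 (h.zf v hz)
  obtain ⟨x, hx, w, hw, rfl⟩ := h.mem_hat_of_max hmax hX hXc
    (mem_inf.2 ⟨hgE, mem_centralizer_iff.2 hcomm⟩) (h.pow_fix_eq_one hgE hv0 hgv)
  have hwv : w ∈ stabilizer A v := by
    have := mul_mem (inv_mem (show x ∈ stabilizer A v from hv x hx)) hgv
    rwa [inv_mul_cancel_left] at this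
  have hw1 : w = 1 := by
    by_contra hne
    exact hv0 (h.zf v (h.z_mem_of_mem hw hne hwv))
  rwa [hw1, mul_one]

theorem relIndex_stab {j : ℕ} (hmax : ∀ Y : Subgroup A, Good V p E Y → Nat.card Y ≤ p ^ j)
    {X : Subgroup A} (hX : Good V p E X) (hXc : Nat.card X = p ^ j) {v : V}
    (hv : v ∈ fix V (X : Set A)) (hv0 : v ≠ 0) :
    (stabilizer A v).relIndex E = Nat.card ↥(E ⊓ centralizer (X : Set A)) := by
  rw [← Subgroup.inf_relIndex_right, h.stab_eq hmax hX hXc hv hv0]
  refine Nat.eq_of_mul_eq_mul_right (Nat.card_pos (α := X)) ?_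
  rw [h.card_centralizer_mul hX, mul_comm, Subgroup.relIndex]
  rw [← Nat.card_congr (subgroupOfEquivOfLe hX.le).toEquiv]
  exact Subgroup.card_mul_index _

/-- In the two-case, the involutions of a centraliser are balanced off a maximal one. -/
theorem involution_count (h2 : p = 2) {j : ℕ}
    (hmax : ∀ Y : Subgroup A, Good V p E Y → Nat.card Y ≤ p ^ j)
    {X Y : Subgroup A} (hX : Good V p E X) (hXc : Nat.card X = p ^ j) (hYX : Y ≤ X) :
    2 * {g | g ∈ E ⊓ centralizer (Y : Set A) ∧ g ^ 2 = 1}.ncard +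
        Nat.card ↥(E ⊓ centralizer (X : Set A)) =
      Nat.card ↥(E ⊓ centralizer (Y : Set A)) + 4 * p ^ j := by
  classical
  subst h2
  set H := E ⊓ centralizer (Y : Set A) with hH
  set C := E ⊓ centralizer (X : Set A) with hC
  have hCH : C ≤ H := inf_le_inf_left _ (centralizer_le hYX)
  have hXH : X ≤ C := fun x hx =>
    ⟨hX.le hx, mem_centralizer_iff.2 fun y hy => (hX.comm y hy x hx).eq⟩
  set P : A → A → Prop := fun g x => x ∈ X ∧ ⁅g, x⁆ ≠ 1 with hP
  set ξ : A → A := fun g => Classical.epsilon (P g) with hξ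
  have hξmem : ∀ g, g ∈ (H : Set A) \ C → ξ g ∈ X ∧ ⁅g, ξ g⁆ ≠ 1 := by
    intro g hg
    refine Classical.epsilon_spec (p := P g) ?_
    by_contra hno
    refine hg.2 ⟨hg.1.1, mem_centralizer_iff.2 fun x hx => ?_⟩
    by_contra hne
    exact hno ⟨x, hx, fun h1 => hne (commutatorElement_eq_one_iff_mul_comm.1 h1).symm⟩
  set τ : A → A := fun g => g * ξ g with hτ
  have hτmem : ∀ g, g ∈ (H : Set A) \ C → τ g ∈ (H : Set A) \ C := fun g hg =>
    ⟨mul_mem hg.1 (hCH (hXH (hξmem g hg).1)), fun hc => hg.2 (by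
      have := mul_mem hc (inv_mem (hXH (hξmem g hg).1))
      simpa [τ] using this)⟩
  have hτξ : ∀ g, g ∈ (H : Set A) \ C → ξ (τ g) = ξ g := by
    intro g hg
    show Classical.epsilon (P (τ g)) = Classical.epsilon (P g)
    congr 1
    funext x
    refine propext (and_congr_right fun hx => not_congr ?_)
    rw [hτ, h.comm_mul_left hg.1.1 (hX.le (hξmem g hg).1) (hX.le hx),
      commutatorElement_eq_one_iff_commute.2 (hX.comm _ (hξmem g hg).1 x hx), mul_one]
  have hξ2 : ∀ g, g ∈ (H : Set A) \ C → ξ g * ξ g = 1 := fun g hg => by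
    rw [← sq]; exact hX.pow _ (hξmem g hg).1
  have hττ : ∀ g, g ∈ (H : Set A) \ C → τ (τ g) = g := fun g hg => by
    show g * ξ g * ξ (τ g) = g
    rw [hτξ g hg, mul_assoc, hξ2 g hg, mul_one]
  have hz2 : ∀ w ∈ zpowers z, w ≠ 1 → w = z := by
    intro w hw hw1
    obtain ⟨i, hi, rfl⟩ := Finset.mem_image.1
      ((isOfFinOrder_of_finite z).mem_zpowers_iff_mem_range_orderOf.1 hw)
    rw [h.zord, Finset.mem_range] at hi
    interval_cases i
    · exact absurd (pow_zero z) hw1
    · exact pow_one z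
  have hflip : ∀ g, g ∈ (H : Set A) \ C → ((τ g) ^ 2 = 1 ↔ ¬ g ^ 2 = 1) := by
    intro g hg
    obtain ⟨hx, hne⟩ := hξmem g hg
    have hgE : g ∈ E := hg.1.1
    have hcz : ⁅ξ g, g⁆ = z := hz2 _ (h.comm _ (hX.le hx) g hgE) fun h1 => hne (by
      rw [← commutatorElement_inv, h1, inv_one])
    have hsq : (τ g) ^ 2 = z * g ^ 2 := by
      have e : ξ g * g = ⁅ξ g, g⁆ * (g * ξ g) := by rw [commutatorElement_def]; group
      calc (τ g) ^ 2 = g * (ξ g * g) * ξ g := by simp only [τ, sq, mul_assoc]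
        _ = g * z * g * (ξ g * ξ g) := by rw [e, hcz]; group
        _ = z * g ^ 2 := by rw [hξ2 g hg, mul_one, (h.zc g hgE).symm.eq, sq, mul_assoc]
    have hzz : z * z = 1 := by rw [← sq, ← h.zord, pow_orderOf_eq_one]
    rw [hsq]
    constructor
    · intro h1 h2
      rw [h2, mul_one] at h1
      exact h.ne_one h1
    · intro h1
      rw [hz2 _ (h.pow g hgE) h1, hzz]
  set S1 := {g | g ∈ (H : Set A) \ C ∧ g ^ 2 = 1} with hS1
  set S0 := {g | g ∈ (H : Set A) \ C ∧ ¬ g ^ 2 = 1} with hS0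
  have heq : S1.ncard = S0.ncard := by
    refine Set.ncard_congr (fun g _ => τ g) ?_ ?_ ?_
    · exact fun g hg => ⟨hτmem g hg.1, fun h1 => (hflip g hg.1).1 h1 hg.2⟩
    · intro a b ha hb he
      rw [← hττ a ha.1, ← hττ b hb.1]
      exact congrArg τ he
    · exact fun g hg => ⟨τ g, ⟨hτmem g hg.1, (hflip g hg.1).2 hg.2⟩, hττ g hg.1⟩
  have hU : (H : Set A) \ C = S1 ∪ S0 := by
    ext g
    simp only [S1, S0, Set.mem_union, Set.mem_setOf_eq]
    tauto
  have hdisj : Disjoint S1 S0 := Set.disjoint_left.2 fun g hg hg' => hg'.2 hg.2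
  have hI : {g | g ∈ H ∧ g ^ 2 = 1} = S1 ∪ (hat X z (h.commX hX) : Set A) := by
    ext g
    constructor
    · rintro ⟨hgH, hg2⟩
      by_cases hgC : g ∈ C
      · exact Or.inr (h.mem_hat_of_max hmax hX hXc hgC hg2)
      · exact Or.inl ⟨⟨hgH, hgC⟩, hg2⟩
    · rintro (hg | hg)
      · exact ⟨hg.1.1, hg.2⟩
      · refine ⟨hCH ⟨h.hat_le hX hg, mem_centralizer_iff.2 fun x hx => ?_⟩, h.hat_pow hX hg⟩
        exact (h.hat_comm hX (le_hat _ hx) hg).eq
  have hhatC : (hat X z (h.commX hX) : Set A) ⊆ C := fun g hg =>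
    ⟨h.hat_le hX hg, mem_centralizer_iff.2 fun x hx => (h.hat_comm hX (le_hat _ hx) hg).eq⟩
  have hIc : {g | g ∈ H ∧ g ^ 2 = 1}.ncard = S1.ncard + 2 * 2 ^ j := by
    rw [hI, Set.ncard_union_eq (Set.disjoint_left.2 fun g hg hg' => hg.1.2 (hhatC hg')),
      ← Nat.card_coe_set_eq (hat X z (h.commX hX) : Set A)]
    congr 1
    have := h.card_hat hX
    rw [hXc] at this
    rw [mul_comm] at this
    exact this
  have hHc : Nat.card H = Nat.card C + (S1.ncard + S0.ncard) := by
    rw [← Set.ncard_union_eq hdisj, ← hU, ← Nat.card_coe_set_eq ((H : Set A) \ C),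
      Nat.card_coe_set_eq, add_comm]
    exact (Set.ncard_sdiff_add_ncard_of_subset (show (C : Set A) ⊆ H from hCH)).symm
  omega

theorem cand_card_add {Y : Subgroup A} (hY : Good V p E Y) :
    (cand p E Y z).ncard + Nat.card Y * p =
      {g | g ∈ E ⊓ centralizer (Y : Set A) ∧ g ^ p = 1}.ncard := by
  rw [← h.card_hat hY]
  have he : cand p E Y z =
      {g | g ∈ E ⊓ centralizer (Y : Set A) ∧ g ^ p = 1} \ (hat Y z (h.commX hY) : Set A) := by
    ext g
    constructor
    · rintro ⟨h1, h2, h3⟩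
      exact ⟨⟨h1, h2⟩, fun ⟨y, hy, w, hw, he⟩ => h3 y hy w hw he⟩
    · rintro ⟨⟨h1, h2⟩, h3⟩
      exact ⟨h1, h2, fun y hy w hw he => h3 ⟨y, hy, w, hw, he⟩⟩
  rw [he, show Nat.card (hat Y z (h.commX hY)) = (hat Y z (h.commX hY) : Set A).ncard from
    Nat.card_coe_set_eq _]
  exact Set.ncard_sdiff_add_ncard_of_subset fun g hg =>
    ⟨mem_inf.2 ⟨h.hat_le hY hg, mem_centralizer_iff.2 fun x hx =>
      (h.hat_comm hY (le_hat _ hx) hg).eq⟩, h.hat_pow hY hg⟩

/-- The double counting. -/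
theorem card_over_le {j u : ℕ} (f : ℕ → ℕ)
    (hf : ∀ (i d : ℕ) (Y X : Subgroup A), i + d + 1 = j → Nat.card Y = p ^ i → Y ≤ X →
      X ∈ fam V p E j u → (cand p E Y z).ncard ≤ (p ^ j - p ^ i) * f (d + 1)) :
    ∀ (d i : ℕ) (Y : Subgroup A), i + d = j → Nat.card Y = p ^ i →
      {X | X ∈ fam V p E j u ∧ Y ≤ X}.ncard ≤ ∏ l ∈ Finset.range d, f (l + 1) := by
  classical
  haveI := Fintype.ofFinite A
  intro d
  induction d with
  | zero =>
    intro i Y hij hY
    simp only [Finset.range_zero, Finset.prod_empty]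
    refine (Set.ncard_le_one_iff (Set.toFinite _)).2 fun {a b} ha hb => ?_
    have key : ∀ X, X ∈ fam V p E j u → Y ≤ X → Y = X := fun X hX hle =>
      Subgroup.eq_of_le_of_card_ge hle (by rw [hX.2.1, hY, ← hij, add_zero])
    rw [← key a ha.1 ha.2, ← key b hb.1 hb.2]
  | succ d ih =>
    intro i Y hij hY
    rw [Finset.prod_range_succ]
    set M := {X | X ∈ fam V p E j u ∧ Y ≤ X} with hM
    rcases M.eq_empty_or_nonempty with he | ⟨X0, hX0⟩
    · simp [he]
    have hcand : (cand p E Y z).ncard ≤ (p ^ j - p ^ i) * f (d + 1) :=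
      hf i d Y X0 (by omega) hY hX0.2 hX0.1
    set R := ∏ l ∈ Finset.range d, f (l + 1) with hR
    -- double counting
    let Mf : Finset (Subgroup A) := M.toFinite.toFinset
    let Cf : Finset A := (cand p E Y z).toFinite.toFinset
    let r : Subgroup A → A → Prop := fun X x => x ∈ X ∧ x ∉ Y
    have hdc := Finset.sum_card_bipartiteAbove_eq_sum_card_bipartiteBelow r (s := Mf) (t := Cf)
    have hleft : ∀ X ∈ Mf, (Finset.bipartiteAbove r Cf X).card = p ^ j - p ^ i := by
      intro X hX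
      rw [Set.Finite.mem_toFinset] at hX
      have hset : (↑(Finset.bipartiteAbove r Cf X) : Set A) = (X : Set A) \ Y := by
        ext x
        simp only [Finset.coe_bipartiteAbove, Set.mem_setOf_eq, Cf, Set.Finite.mem_toFinset, r,
          Set.mem_diff, SetLike.mem_coe]
        refine ⟨fun hx => hx.2, fun hx => ⟨⟨⟨hX.1.1.le hx.1, mem_centralizer_iff.2 fun y hy =>
          (hX.1.1.comm y (hX.2 hy) x hx.1).eq⟩, hX.1.1.pow x hx.1, fun y hy w hw he => hx.2 ?_⟩, hx⟩⟩
        have hwX : w ∈ X := by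
          have := mul_mem (inv_mem (hX.2 hy)) hx.1
          rwa [he, inv_mul_cancel_left] at this
        rw [he, h.inter_eq_one hX.1.1 hwX hw, mul_one]
        exact hy
      rw [← Set.ncard_coe_finset, hset, Set.ncard_sdiff (fun a ha => hX.2 ha),
        ← Nat.card_coe_set_eq, ← Nat.card_coe_set_eq]
      show Nat.card X - Nat.card Y = _
      rw [hX.1.2.1, hY]
    have hright : ∀ x ∈ Cf, (Finset.bipartiteBelow r Mf x).card ≤ R := by
      intro x _
      rcases (Finset.bipartiteBelow r Mf x).eq_empty_or_nonempty with he | ⟨X1, hX1⟩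
      · simp [he]
      simp only [Finset.mem_bipartiteBelow, Mf, Set.Finite.mem_toFinset, r] at hX1
      obtain ⟨⟨hX1f, hYX1⟩, hx1, hxY⟩ := hX1
      have hcx : ∀ y ∈ Y, Commute x y := fun y hy => hX1f.1.comm x hx1 y (hYX1 hy)
      let Y' := hat Y x hcx
      have hY'X : Y' ≤ X1 := by
        rintro g ⟨y, hy, w, hw, rfl⟩
        exact mul_mem (hYX1 hy) ((zpowers_le.2 hx1) hw)
      have hpr := h.prime
      have hY'c : Nat.card Y' = p ^ (i + 1) := by
        obtain ⟨t, -, ht⟩ := (Nat.dvd_prime_pow hpr).1 (hX1f.2.1 ▸ Subgroup.card_dvd_of_le hY'X)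
        have hlt : Nat.card Y < Nat.card Y' := Set.ncard_lt_ncard
          (show (Y : Set A) ⊂ Y' from ⟨le_hat hcx, fun hle => hxY (hle (mem_hat_self hcx))⟩)
        have hle : Nat.card Y' ≤ Nat.card Y * p := by
          have hxo : Nat.card (zpowers x) ≤ p := by
            rw [Nat.card_zpowers]
            exact orderOf_le_of_pow_eq_one hpr.pos (hX1f.1.pow x hx1)
          refine le_trans (Nat.card_le_card_of_surjective
            (fun q : Y × zpowers x => (⟨q.1 * q.2, q.1, q.1.2, q.2, q.2.2, rfl⟩ : Y')) ?_) ?_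
          · rintro ⟨g, y, hy, w, hw, rfl⟩
            exact ⟨(⟨y, hy⟩, ⟨w, hw⟩), rfl⟩
          · rw [Nat.card_prod]
            exact Nat.mul_le_mul_left _ hxo
        rw [ht, hY] at hlt
        rw [ht, hY, ← pow_succ] at hle
        rw [ht]
        congr 1
        have h1 := (Nat.pow_lt_pow_iff_right hpr.one_lt).1 hlt
        have h2 := (Nat.pow_le_pow_iff_right hpr.one_lt).1 hle
        omega
      refine le_trans ?_ (ih (i + 1) Y' (by omega) hY'c)
      rw [← Set.ncard_coe_finset]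
      refine Set.ncard_le_ncard (fun X hX => ?_)
      simp only [Finset.coe_bipartiteBelow, Set.mem_setOf_eq, Mf, Set.Finite.mem_toFinset, r] at hX
      refine ⟨hX.1.1, ?_⟩
      rintro g ⟨y, hy, w, hw, rfl⟩
      exact mul_mem (hX.1.2 hy) ((zpowers_le.2 hX.2.1) hw)
    rw [Finset.sum_congr rfl hleft, Finset.sum_const, smul_eq_mul] at hdc
    have hsum := Finset.sum_le_card_nsmul Cf _ R hright
    rw [← hdc, smul_eq_mul] at hsum
    have hMc : Mf.card = M.ncard := (Set.ncard_eq_toFinset_card M).symm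
    have hCc : Cf.card = (cand p E Y z).ncard := (Set.ncard_eq_toFinset_card _).symm
    rw [hMc, hCc] at hsum
    have hpos : 0 < p ^ j - p ^ i :=
      Nat.sub_pos_of_lt (Nat.pow_lt_pow_right h.prime.one_lt (by omega))
    refine Nat.le_of_mul_le_mul_left ?_ hpos
    calc (p ^ j - p ^ i) * M.ncard = M.ncard * (p ^ j - p ^ i) := mul_comm _ _
      _ ≤ (cand p E Y z).ncard * R := hsum
      _ ≤ (p ^ j - p ^ i) * f (d + 1) * R := Nat.mul_le_mul_right _ hcand
      _ = (p ^ j - p ^ i) * (R * f (d + 1)) := by ring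

end Ext

end Cfsg.Agent.DerIdx
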