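import Cfsg.Agent.DerIdx.ExtCount
import Cfsg.Agent.DerIdx.Arith

/-!
A linear group with large fixed-point-free quotient has no non-trivial class two section of this
kind.
-/

set_option autoImplicit false
set_option linter.style.haveILetI false
set_option linter.unusedSectionVars false

namespace Cfsg.Agent.DerIdx

open Subgroup MulAction
open scoped commutatorElement

variable {A V : Type*} [Group A] [Finite A] [AddCommGroup V] [Finite V] [DistribMulAction A V]
variable {p : ℕ} {E : Subgroup A} {z : A}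

namespace Ext

variable (h : Ext V p E z)

include h

/-- Translates of a maximal good subgroup give independent fixed spaces. -/
theorem pow_fix_le {j : ℕ} {X : Subgroup A} (hX : Good V p E X) (hXc : Nat.card X = p ^ j) :
    Nat.card (fix V (X : Set A)) ^ p ^ j ≤ Nat.card V := by
  classical
  set C := (E ⊓ centralizer (X : Set A)).subgroupOf E with hC
  haveI := Fintype.ofFinite (E ⧸ C)
  have hcard : Fintype.card (E ⧸ C) = p ^ j := by
    rw [← Nat.card_eq_fintype_card, ← Subgroup.index_eq_card]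
    refine Nat.eq_of_mul_eq_mul_right (Nat.card_pos (α := C)) ?_
    rw [Subgroup.index_mul_card, ← hXc,
      Nat.card_congr (subgroupOfEquivOfLe (inf_le_left : E ⊓ centralizer (X : Set A) ≤ E)).toEquiv,
      mul_comm, h.card_centralizer_mul hX]
  let F : E ⧸ C → Subgroup A := fun q => X.map (MulAut.conj ((q.out : E) : A)).toMonoidHom
  have hhat : ∀ q, F q ≤ hat X z (h.commX hX) := by
    rintro q _ ⟨x, hx, rfl⟩
    refine ⟨x, hx, ⁅((q.out : E) : A), x⁆,
      h.comm _ (q.out : E).2 x (hX.le hx), ?_⟩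
    rw [← (h.zpowers_comm (h.comm _ (q.out : E).2 x (hX.le hx)) (hX.le hx)).eq]
    simp [commutatorElement_def]
  have hgood : ∀ q, Good V p E (F q) := fun q =>
    hX.conj fun e he => E.mul_mem (E.mul_mem (q.out : E).2 he) (E.inv_mem (q.out : E).2)
  have hFc : ∀ q, Nat.card (F q) = p ^ j := fun q => by
    rw [← hXc, Subgroup.card_map_of_injective (MulEquiv.injective _)]
  have hne : ∀ q q', q ≠ q' → F q ≠ F q' := by
    intro q q' hqq he
    apply hqq
    rw [← QuotientGroup.out_eq' q, ← QuotientGroup.out_eq' q', QuotientGroup.eq]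
    show _ ∈ (E ⊓ centralizer (X : Set A)).subgroupOf E
    rw [mem_subgroupOf, mem_inf]
    refine ⟨Subtype.prop _, mem_centralizer_iff.2 fun x hx => ?_⟩
    set a := ((q.out : E) : A)
    set b := ((q'.out : E) : A)
    show x * (a⁻¹ * b) = a⁻¹ * b * x
    have hm : b * x * b⁻¹ ∈ F q := he ▸ ⟨x, hx, rfl⟩
    obtain ⟨x', hx', hxx'⟩ := hm
    have hxx'' : a * x' * a⁻¹ = b * x * b⁻¹ := hxx'
    have hmem : ⁅a⁻¹ * b, x⁆ ∈ X := by
      have e : ⁅a⁻¹ * b, x⁆ = x' * x⁻¹ := by
        rw [commutatorElement_def]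
        calc a⁻¹ * b * x * (a⁻¹ * b)⁻¹ * x⁻¹ = a⁻¹ * (b * x * b⁻¹) * a * x⁻¹ := by group
          _ = x' * x⁻¹ := by rw [← hxx'']; group
      rw [e]
      exact mul_mem hx' (inv_mem hx)
    exact (commutatorElement_eq_one_iff_mul_comm.1 (h.inter_eq_one hX hmem
      (h.comm _ (E.mul_mem (E.inv_mem (q.out : E).2) (q'.out : E).2) x (hX.le hx)))).symm
  have hp := prod_fix_le (V := V) (hat X z (h.commX hX))
    (fun a ha b hb => (h.hat_comm hX ha hb).eq)
    ((AddSubgroup.eq_bot_iff_forall _).2 fun v hv => h.zf v (hv z (mem_hat_self _))) F hhat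
    (by
      intro q q' hqq
      obtain ⟨g, hg, hg'⟩ : ∃ g ∈ F q, g ∉ F q' := by
        by_contra hno
        push Not at hno
        exact hne q q' hqq (Subgroup.eq_of_le_of_card_ge hno (by rw [hFc, hFc]))
      obtain ⟨x, hx, w, hw, rfl⟩ := hhat q hg
      set b := ((q'.out : E) : A) with hb
      have hbx : b * x * b⁻¹ ∈ F q' := ⟨x, hx, rfl⟩
      have hc : b * x * b⁻¹ = x * ⁅b, x⁆ := by
        rw [← (h.zpowers_comm (h.comm _ (q'.out : E).2 x (hX.le hx)) (hX.le hx)).eq]
        simp [commutatorElement_def, b]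
      have hw' : w ≠ ⁅b, x⁆ := fun he => hg' (by rw [he, ← hc]; exact hbx)
      have hzm : z ∈ F q ⊔ F q' := by
        refine h.z_mem_of_mem (mul_mem (inv_mem (h.comm _ (q'.out : E).2 x (hX.le hx))) hw)
          (fun he => hw' (inv_mul_eq_one.1 he).symm) ?_
        have : (⁅b, x⁆)⁻¹ * w = (b * x * b⁻¹)⁻¹ * (x * w) := by rw [hc]; group
        rw [this]
        exact mul_mem (inv_mem (mem_sup_right hbx)) (mem_sup_left hg)
      rintro a ⟨x, hx, w, hw, rfl⟩
      have hzp : zpowers z ≤ F q ⊔ F q' := zpowers_le.2 hzm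
      refine mul_mem ?_ (hzp hw)
      have hm : ((q.out : E) : A) * x * ((q.out : E) : A)⁻¹ ∈ F q ⊔ F q' :=
        mem_sup_left ⟨x, hx, rfl⟩
      have e : x = ⁅((q.out : E) : A), x⁆⁻¹ * (((q.out : E) : A) * x * ((q.out : E) : A)⁻¹) := by
        rw [commutatorElement_def]; group
      rw [e]
      exact mul_mem (inv_mem (hzp (h.comm _ (q.out : E).2 x (hX.le hx)))) hm)
    (fun q => by rw [hFc]; exact Nat.Coprime.pow_left _ h.cop)
  refine le_trans ?_ hp
  simp only [F, card_fix_conj, Finset.prod_const, Finset.card_univ, hcard, le_refl]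

/-- The main conclusion. -/
theorem fixed_vector_free {B N : Subgroup A} [B.Normal] (hB : Big V B) (hV1 : 1 < Nat.card V)
    (hN : N ⊔ B = ⊤)
    (hEN : E ≤ N) (hEB : E ≤ B) (hnorm : ∀ n ∈ N, ∀ e ∈ E, n * e * n⁻¹ ∈ E) :
    ∀ x ∈ E, x ^ p = 1 → x ∈ zpowers z := by
  classical
  intro x hxE hxp
  by_contra hxz
  have hpr := h.prime
  have hVne : (⊤ : AddSubgroup V) ≠ ⊥ := fun ht => by
    rw [← AddSubgroup.card_top (G := V), ht, AddSubgroup.card_bot] at hV1
    omega
  obtain ⟨i, v, -, hv0, hv⟩ := exists_fixed_pair hpr h.cop (x := x) hxp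
    (h.zord ▸ pow_orderOf_eq_one z) (h.zc x hxE).symm ⊤ (fun v _ => h.zf v) hVne
    (fun _ _ => AddSubgroup.mem_top _) (fun _ _ => AddSubgroup.mem_top _)
  set y := x * z ^ i with hy
  have hyE : y ∈ E := E.mul_mem hxE (E.pow_mem h.mem i)
  have hy1 : y ≠ 1 := fun he => hxz (by
    have : x = (z ^ i)⁻¹ := eq_inv_of_mul_eq_one_left he
    rw [this]; exact inv_mem (pow_mem (mem_zpowers z) i))
  have hyp : y ^ p = 1 := by
    rw [hy, ((h.zc x hxE).symm.pow_right i).mul_pow, hxp, ← pow_mul, mul_comm i, pow_mul,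
      ← h.zord, pow_orderOf_eq_one, one_pow, one_mul]
  have hygood : Good V p E (zpowers y) := by
    refine ⟨zpowers_le.2 hyE, ?_, ?_, fun hb => hv0 ((AddSubgroup.eq_bot_iff_forall _).1 hb v ?_)⟩
    · intro a ha
      obtain ⟨m, rfl⟩ := mem_zpowers_iff.1 ha
      rw [← zpow_natCast, ← zpow_mul, mul_comm, zpow_mul, zpow_natCast, hyp, one_zpow]
    · intro a ha b hb
      obtain ⟨m, rfl⟩ := mem_zpowers_iff.1 ha
      obtain ⟨m', rfl⟩ := mem_zpowers_iff.1 hb
      exact Commute.zpow_zpow_self y m m'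
    · exact fun a ha => (zpowers_le.2 (show y ∈ stabilizer A v from hv)) ha
  haveI : Fact p.Prime := ⟨hpr⟩
  have hyc : Nat.card (zpowers y) = p := by
    rw [Nat.card_zpowers, orderOf_eq_prime hyp hy1]
  obtain ⟨⟨X0, hX0⟩, hmax0⟩ : ∃ X : {X : Subgroup A // Good V p E X},
      ∀ Y : {X : Subgroup A // Good V p E X}, Nat.card Y.1 ≤ Nat.card X.1 := by
    haveI : Nonempty {X : Subgroup A // Good V p E X} := ⟨⟨_, hygood⟩⟩
    exact Finite.exists_max fun X : {X : Subgroup A // Good V p E X} => Nat.card X.1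
  obtain ⟨j, hj⟩ : ∃ j, Nat.card X0 = p ^ j :=
    IsPGroup.iff_card.1 (fun g => ⟨1, by rw [pow_one]; exact Subtype.ext (hX0.pow g g.2)⟩)
  have hmax : ∀ Y : Subgroup A, Good V p E Y → Nat.card Y ≤ p ^ j :=
    fun Y hY => hj ▸ hmax0 ⟨Y, hY⟩
  have hj1 : 1 ≤ j := by
    have := hmax _ hygood
    rw [hyc] at this
    by_contra hj0
    interval_cases j
    simp at this
    exact absurd hpr.one_lt (by omega)
  set u := Nat.card (fix V (X0 : Set A)) with hu
  set C := E ⊓ centralizer (X0 : Set A) with hC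
  have hhatC : hat X0 z (h.commX hX0) ≤ C := fun g hg =>
    ⟨h.hat_le hX0 hg, mem_centralizer_iff.2 fun a ha => (h.hat_comm hX0 (le_hat _ ha) hg).eq⟩
  obtain ⟨c, hc⟩ : p ^ (j + 1) ∣ Nat.card C := by
    have := Subgroup.card_dvd_of_le hhatC
    rwa [h.card_hat hX0, hj, ← pow_succ] at this
  have hc1 : 1 ≤ c := by
    rcases Nat.eq_zero_or_pos c with rfl | hc0
    · simp [Nat.card_pos.ne'] at hc
    · exact hc0
  have hEc : Nat.card E = p ^ (2 * j + 1) * c := by
    rw [← h.card_centralizer_mul hX0, ← hC, hc, hj]; ring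
  have hmemC : ∀ X, Good V p E X → Nat.card X = p ^ j →
      Nat.card ↥(E ⊓ centralizer (X : Set A)) = p ^ (j + 1) * c := by
    intro X hX hXc
    refine Nat.eq_of_mul_eq_mul_right (Nat.card_pos (α := X)) ?_
    rw [h.card_centralizer_mul hX, hXc, hEc]; ring
  obtain ⟨w, hw, hw0⟩ : ∃ w ∈ fix V (X0 : Set A), w ≠ 0 := by
    by_contra hno
    push Not at hno
    exact hX0.fixed ((AddSubgroup.eq_bot_iff_forall _).2 hno)
  -- `u` is large
  have hu2 : p * c + 1 ≤ u := by
    have hstabC : (stabilizer A w).relIndex C = p * c := by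
      refine Nat.eq_of_mul_eq_mul_left (Nat.card_pos (α := X0)) ?_
      have h1 : stabilizer A w ⊓ C = X0 := by
        rw [hC, ← inf_assoc, h.stab_eq hmax hX0 hj hw hw0]
        exact inf_eq_left.2 fun a ha => mem_centralizer_iff.2 fun b hb => (hX0.comm b hb a ha).eq
      have h2 : (X0.subgroupOf C).index * Nat.card (X0.subgroupOf C) = Nat.card C :=
        Subgroup.index_mul_card _
      rw [Nat.card_congr (subgroupOfEquivOfLe ((le_hat _).trans hhatC)).toEquiv, hc] at h2
      rw [← Subgroup.inf_relIndex_right, h1, Subgroup.relIndex, mul_comm, h2, hj]; ring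
    have hsub : orbit C w ⊆ (fix V (X0 : Set A) : Set V) \ {0} := by
      rintro _ ⟨g, rfl⟩
      refine ⟨fun a ha => ?_, fun h0 => hw0 ?_⟩
      · show a • ((g : A) • w) = (g : A) • w
        rw [← mul_smul, mem_centralizer_iff.1 g.2.2 a ha, mul_smul, hw a ha]
      · simpa [Submonoid.smul_def, smul_eq_zero_iff_eq] using h0
    have := Nat.card_mono (Set.toFinite _) hsub
    rw [card_orbit_eq_relIndex, hstabC, Nat.card_coe_set_eq,
      Set.ncard_sdiff (Set.singleton_subset_iff.2 (zero_mem _)), Set.ncard_singleton,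
      ← Nat.card_coe_set_eq] at this
    have hfe : Nat.card ((fix V (X0 : Set A) : Set V)) = u := rfl
    have hpc : 0 < p * c := Nat.mul_pos hpr.pos hc1
    omega
  -- the orbit bound
  set S : Set V := {v | v ≠ 0 ∧ ∃ X ∈ fam V p E j u, v ∈ fix V (X : Set A)} with hS
  have hX0f : X0 ∈ fam V p E j u := ⟨hX0, hj, rfl⟩
  have hSinv : ∀ g ∈ N, ∀ v ∈ S, g • v ∈ S := by
    rintro g hg v ⟨hv0, X, hX, hvX⟩
    refine ⟨fun h0 => hv0 (by simpa [smul_eq_zero_iff_eq] using h0),
      X.map (MulAut.conj g).toMonoidHom, ⟨hX.1.conj (hnorm g hg), ?_, ?_⟩, ?_⟩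
    · rw [Subgroup.card_map_of_injective (MulEquiv.injective _), hX.2.1]
    · rw [card_fix_conj, hX.2.2]
    · rintro _ ⟨a, ha, rfl⟩
      simp [mul_smul, hvX a ha]
  have hbound := orbit_bound B N E hN hB.fpf hEN hEB hSinv (v := w) ⟨hw0, X0, hX0f, hw⟩ hw0
  rw [h.relIndex_stab hmax hX0 hj hw hw0, hc] at hbound
  have hScard : Nat.card S ≤ (fam V p E j u).ncard * (u - 1) := by
    let fF : Finset (Subgroup A) := (fam V p E j u).toFinite.toFinset
    have hsub : S ⊆ ⋃ X ∈ fF, ((fix V (X : Set A) : Set V) \ {0}) := by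
      rintro v ⟨hv0, X, hX, hvX⟩
      exact Set.mem_iUnion₂.2 ⟨X, (Set.Finite.mem_toFinset _).2 hX, hvX, hv0⟩
    rw [Nat.card_coe_set_eq]
    refine le_trans (Set.ncard_le_ncard hsub) ?_
    refine le_trans (Finset.set_ncard_biUnion_le fF _) ?_
    rw [Set.ncard_eq_toFinset_card (fam V p E j u), ← smul_eq_mul]
    refine Finset.sum_le_card_nsmul fF _ _ fun X hX => ?_
    rw [Set.ncard_sdiff (Set.singleton_subset_iff.2 (zero_mem _)), Set.ncard_singleton]
    refine Nat.sub_le_sub_right (le_of_eq ?_) 1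
    rw [← ((Set.Finite.mem_toFinset _).1 hX).2.2]
    exact (Nat.card_coe_set_eq _).symm
  have hfamle : ∀ f : ℕ → ℕ, (∀ (i d : ℕ) (Y X : Subgroup A), i + d + 1 = j → Nat.card Y = p ^ i →
      Y ≤ X → X ∈ fam V p E j u → (cand p E Y z).ncard ≤ (p ^ j - p ^ i) * f (d + 1)) →
      (fam V p E j u).ncard ≤ ∏ l ∈ Finset.range j, f (l + 1) := by
    intro f hf
    refine le_trans (Set.ncard_le_ncard (t := {X | X ∈ fam V p E j u ∧ (⊥ : Subgroup A) ≤ X})
      (fun X hX => ⟨hX, bot_le⟩))
      (h.card_over_le f hf j 0 ⊥ (zero_add j) (by simp))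
  have hn : u ^ p ^ j ≤ Nat.card V := h.pow_fix_le hX0 hj
  have key : (B.index + 1) ^ 2 ≤ Nat.card V := by
    rcases eq_or_ne p 2 with h2 | h2
    · subst h2
      refine two_final hc1 (by omega) hj1 hn ?_
      have hfam := hfamle (fun m => c * 2 ^ m + 2) (by
        intro i d Y X hid hY hYX hX
        have h1 := h.involution_count rfl hmax hX.1 hX.2.1 hYX
        have h3 := h.cand_card_add (hX.1.mono hYX)
        have h4 := h.card_centralizer_mul (hX.1.mono hYX)
        rw [hmemC X hX.1 hX.2.1] at h1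
        rw [hY] at h3 h4
        rw [hEc] at h4
        have hH : Nat.card ↥(E ⊓ centralizer (Y : Set A)) = 2 ^ (2 * j + 1 - i) * c := by
          refine Nat.eq_of_mul_eq_mul_right (pow_pos two_pos i) ?_
          rw [h4, mul_right_comm, ← pow_add, Nat.sub_add_cancel (by omega)]
        rw [hH] at h1
        obtain rfl : j = i + d + 1 := hid.symm
        rw [show 2 * (i + d + 1) + 1 - i = (i + 1) + (d + 1) + (d + 1) by omega] at h1
        rw [show i + d + 1 = i + (d + 1) by omega]
        rw [show i + d + 1 + 1 = i + (d + 1) + 1 by omega,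
          show i + d + 1 = i + (d + 1) by omega] at h1
        obtain ⟨T, hT⟩ : ∃ T, 2 ^ (d + 1) = T + 1 :=
          ⟨2 ^ (d + 1) - 1, by have := Nat.one_le_two_pow (n := d + 1); omega⟩
        rw [pow_add 2 i (d + 1), hT]
        simp only [pow_succ 2 (i + (d + 1)), pow_add 2 (i + 1 + (d + 1)) (d + 1),
          pow_add 2 (i + 1) (d + 1), pow_add 2 i (d + 1), hT, pow_succ 2 i] at h1
        rw [show 2 ^ i * (T + 1) - 2 ^ i = 2 ^ i * T by rw [mul_add, mul_one, Nat.add_sub_cancel]]
        nlinarith)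
      refine Nat.le_of_mul_le_mul_left ?_ (pow_pos two_pos j)
      calc 2 ^ j * (B.index * (2 * c)) = B.index * (2 ^ (j + 1) * c) := by ring
        _ ≤ (fam V 2 E j u).ncard * (u - 1) := hbound.trans hScard
        _ ≤ (∏ l ∈ Finset.range j, (c * 2 ^ (l + 1) + 2)) * (u - 1) :=
          Nat.mul_le_mul_right _ hfam
        _ = 2 ^ j * ((∏ l ∈ Finset.range j, (c * 2 ^ l + 1)) * (u - 1)) := by
          rw [← mul_assoc]
          congr 1
          rw [Finset.pow_eq_prod_const, ← Finset.prod_mul_distrib]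
          exact Finset.prod_congr rfl fun l _ => by ring
    · have hp3 : 3 ≤ p := by have := hpr.two_le; omega
      have hc1' : c = 1 := by
        have hle : Nat.card C ≤ p ^ (j + 1) := by
          have heq : C ≤ hat X0 z (h.commX hX0) := fun g hg =>
            h.mem_hat_of_max hmax hX0 hj hg (h.odd h2 g hg.1)
          have := Subgroup.card_le_of_le heq
          rwa [h.card_hat hX0, hj, ← pow_succ] at this
        rw [hc] at hle
        exact le_antisymm (Nat.le_of_mul_le_mul_left (by simpa using hle) (pow_pos hpr.pos _)) hc1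
      subst hc1'
      refine odd_final hp3 (by omega) hj1 hn ?_
      have hfam := hfamle (fun m => p * (p ^ m + 1)) (by
        intro i d Y X hid hY hYX hX
        have h3 := h.cand_card_add (hX.1.mono hYX)
        have h4 := h.card_centralizer_mul (hX.1.mono hYX)
        rw [hY] at h3 h4
        rw [hEc] at h4
        have hH : {g | g ∈ E ⊓ centralizer (Y : Set A) ∧ g ^ p = 1}.ncard =
            Nat.card ↥(E ⊓ centralizer (Y : Set A)) := by
          rw [← Nat.card_coe_set_eq]
          exact Nat.card_congr (Equiv.subtypeEquivRight fun g =>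
            ⟨fun hg => hg.1, fun hg => ⟨hg, h.odd h2 g hg.1⟩⟩)
        rw [hH] at h3
        obtain rfl : j = i + d + 1 := hid.symm
        have hH' : Nat.card ↥(E ⊓ centralizer (Y : Set A)) = p ^ ((i + 1) + (d + 1) + (d + 1)) := by
          refine Nat.eq_of_mul_eq_mul_right (pow_pos hpr.pos i) ?_
          rw [h4, mul_one, ← pow_add]
          congr 1
          omega
        rw [hH'] at h3
        obtain ⟨T, hT⟩ : ∃ T, p ^ (d + 1) = T + 1 :=
          ⟨p ^ (d + 1) - 1, by have := Nat.one_le_pow (d + 1) p hpr.pos; omega⟩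
        rw [show i + d + 1 = i + (d + 1) by omega, pow_add p i (d + 1), hT]
        simp only [pow_add p (i + 1 + (d + 1)) (d + 1),
          pow_add p (i + 1) (d + 1), hT, pow_succ p i] at h3
        rw [show p ^ i * (T + 1) - p ^ i = p ^ i * T by rw [mul_add, mul_one, Nat.add_sub_cancel]]
        nlinarith)
      refine Nat.le_of_mul_le_mul_left ?_ (pow_pos hpr.pos j)
      calc p ^ j * (B.index * p) = B.index * (p ^ (j + 1) * 1) := by ring
        _ ≤ (fam V p E j u).ncard * (u - 1) := hbound.trans hScard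
        _ ≤ (∏ l ∈ Finset.range j, p * (p ^ (l + 1) + 1)) * (u - 1) :=
          Nat.mul_le_mul_right _ hfam
        _ = p ^ j * ((∏ l ∈ Finset.range j, (p ^ (l + 1) + 1)) * (u - 1)) := by
          rw [← mul_assoc]
          congr 1
          rw [Finset.pow_eq_prod_const, ← Finset.prod_mul_distrib]
  exact absurd hB.big (not_lt.2 key)

end Ext

end Cfsg.Agent.DerIdx
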