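import Mathlib

/-!
Linear groups with a normal subgroup outside which all elements are fixed point free.
-/

set_option autoImplicit false
set_option linter.style.haveILetI false

namespace Cfsg.Agent.DerIdx

open MulAction Subgroup

variable {A V : Type*} [Group A] [AddCommGroup V] [DistribMulAction A V]

/-- Elements outside `B` fix only `0`, and `B` has large index compared with `√|V|`. -/
structure Big (V : Type*) [AddCommGroup V] [DistribMulAction A V] (B : Subgroup A) : Prop where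
  fpf : ∀ g ∉ B, ∀ v : V, g • v = v → v = 0
  big : Nat.card V < (B.index + 1) ^ 2

theorem relIndex_cover (B H : Subgroup A) [B.Normal] (hH : H ⊔ B = ⊤) :
    B.relIndex H = B.index := by
  rw [← Subgroup.relIndex_sup_left H B, sup_comm, hH, Subgroup.relIndex_top_right]

variable [Finite A]

theorem relIndex_stab_eq (B H : Subgroup A) [B.Normal] (hH : H ⊔ B = ⊤)
    (hfpf : ∀ g ∉ B, ∀ v : V, g • v = v → v = 0) {v : V} (hv : v ≠ 0) :
    (stabilizer A v).relIndex H = B.index * (stabilizer A v).relIndex (B ⊓ H) := by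
  have hle : stabilizer A v ⊓ H ≤ B ⊓ H :=
    le_inf (fun g hg => by_contra fun hgB => hv (hfpf g hgB v hg.1)) inf_le_right
  have h := Subgroup.relIndex_mul_relIndex (stabilizer A v ⊓ H) (B ⊓ H) H hle inf_le_right
  rw [Subgroup.inf_relIndex_right, Subgroup.inf_relIndex_right] at h
  have h' : (stabilizer A v ⊓ H).relIndex (B ⊓ H) = (stabilizer A v).relIndex (B ⊓ H) := by
    rw [← Subgroup.inf_relIndex_right (stabilizer A v ⊓ H) (B ⊓ H),
      ← Subgroup.inf_relIndex_right (stabilizer A v) (B ⊓ H)]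
    congr 1
    rw [inf_assoc, ← inf_assoc H, inf_comm H B, inf_assoc B H H, inf_idem]
  rw [h', relIndex_cover B H hH] at h
  rw [← h, mul_comm]

theorem card_orbit_eq_relIndex (H : Subgroup A) (v : V) :
    Nat.card (orbit H v) = (stabilizer A v).relIndex H := by
  have hst : stabilizer H v = (stabilizer A v).subgroupOf H := by
    ext g
    rfl
  rw [Subgroup.relIndex, ← hst, index_stabilizer, Nat.card_coe_set_eq]

theorem orbit_subset (H : Subgroup A) {S : Set V}
    (hS : ∀ g ∈ H, ∀ v ∈ S, g • v ∈ S) {v : V} (hv : v ∈ S) : orbit H v ⊆ S := by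
  rintro w ⟨g, rfl⟩
  exact hS g g.2 v hv

/-- An invariant set of non-zero vectors is large. -/
theorem orbit_bound [Finite V] (B H P : Subgroup A) [B.Normal] (hH : H ⊔ B = ⊤)
    (hfpf : ∀ g ∉ B, ∀ v : V, g • v = v → v = 0) (hPH : P ≤ H) (hPB : P ≤ B)
    {S : Set V} (hS : ∀ g ∈ H, ∀ v ∈ S, g • v ∈ S) {v : V} (hv : v ∈ S) (hv0 : v ≠ 0) :
    B.index * (stabilizer A v).relIndex P ≤ Nat.card S := by
  have h1 : Nat.card (orbit H v) ≤ Nat.card S :=
    Nat.card_mono (Set.toFinite S) (orbit_subset H hS hv)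
  rw [card_orbit_eq_relIndex, relIndex_stab_eq B H hH hfpf hv0] at h1
  refine le_trans (Nat.mul_le_mul_left _ ?_) h1
  exact Subgroup.relIndex_le_of_le_right (le_inf hPB hPH) Subgroup.index_ne_zero_of_finite

/-- The index divides the size of any invariant set of non-zero vectors. -/
theorem index_dvd_card [Finite V] (B H : Subgroup A) [B.Normal] (hH : H ⊔ B = ⊤)
    (hfpf : ∀ g ∉ B, ∀ v : V, g • v = v → v = 0)
    (S : Set V) (hS : ∀ g ∈ H, ∀ v ∈ S, g • v ∈ S) (h0 : (0 : V) ∉ S) :
    B.index ∣ Nat.card S := by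
  classical
  haveI := Fintype.ofFinite V
  let Y : SubMulAction H V := ⟨S, fun g v hv => hS g g.2 v hv⟩
  haveI : Fintype (orbitRel.Quotient H Y) := Fintype.ofFinite _
  have hY : Nat.card S = Nat.card Y := rfl
  rw [hY, Nat.card_congr (selfEquivSigmaOrbits H Y), Nat.card_sigma]
  refine Finset.dvd_sum fun q _ => ?_
  obtain ⟨y, hy⟩ : ∃ y : Y, y = q.out := ⟨_, rfl⟩
  rw [← hy]
  have hy0 : (y : V) ≠ 0 := fun h => h0 (h ▸ y.2)
  have he : Nat.card (orbit H y) = Nat.card (orbit H (y : V)) := by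
    refine Nat.card_congr ((Equiv.Set.image Subtype.val (orbit H y) Subtype.val_injective).trans
      (Equiv.setCongr ?_))
    ext z
    constructor
    · rintro ⟨_, ⟨s, rfl⟩, rfl⟩
      exact ⟨s, rfl⟩
    · rintro ⟨s, rfl⟩
      exact ⟨_, ⟨s, rfl⟩, rfl⟩
  rw [he, card_orbit_eq_relIndex, relIndex_stab_eq B H hH hfpf hy0]
  exact dvd_mul_right _ _

theorem index_dvd_card_sub_one [Finite V] (B H : Subgroup A) [B.Normal] (hH : H ⊔ B = ⊤)
    (hfpf : ∀ g ∉ B, ∀ v : V, g • v = v → v = 0)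
    (W : AddSubgroup V) (hW : ∀ g ∈ H, ∀ v ∈ W, g • v ∈ W) :
    B.index ∣ Nat.card W - 1 := by
  have h := index_dvd_card B H hH hfpf ((W : Set V) \ {0})
    (fun g hg v hv => ⟨hW g hg v hv.1, fun h => hv.2 (by
      simpa [smul_eq_zero_iff_eq] using h)⟩) (fun h => h.2 rfl)
  have hc : Nat.card ((W : Set V) \ {0} : Set V) = Nat.card W - 1 := by
    rw [Nat.card_coe_set_eq, Set.ncard_sdiff (Set.singleton_subset_iff.2 W.zero_mem),
      Set.ncard_singleton, ← Nat.card_coe_set_eq]
    rfl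
  rwa [hc] at h

/-- An arithmetical fact: a common divisor of `r ^ w - 1` and `r ^ e - 1` is small. -/
theorem small_of_dvd {r w e k : ℕ} (hr : 2 ≤ r) (hw : 0 < w) (hwe : w < e)
    (h1 : k ∣ r ^ w - 1) (h2 : k ∣ r ^ e - 1) : (k + 1) ^ 2 ≤ r ^ e := by
  have hd : k ∣ r ^ Nat.gcd w e - 1 := by
    rw [← Nat.pow_sub_one_gcd_pow_sub_one]
    exact Nat.dvd_gcd h1 h2
  set g := Nat.gcd w e with hg
  have hg0 : 0 < g := Nat.gcd_pos_of_pos_left _ hw
  have hpos : 0 < r ^ g - 1 := Nat.sub_pos_of_lt (Nat.one_lt_pow hg0.ne' hr)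
  have hk : k + 1 ≤ r ^ g := by
    have := Nat.le_of_dvd hpos hd
    omega
  have hge : 2 * g ≤ e := by
    obtain ⟨c, hc⟩ : g ∣ e := Nat.gcd_dvd_right w e
    have hgw : g ≤ w := Nat.le_of_dvd hw (Nat.gcd_dvd_left w e)
    have hc2 : 2 ≤ c := by
      by_contra hc2
      interval_cases c <;> omega
    calc 2 * g ≤ c * g := Nat.mul_le_mul_right _ hc2
      _ = e := by rw [hc, mul_comm]
  calc (k + 1) ^ 2 ≤ (r ^ g) ^ 2 := Nat.pow_le_pow_left hk 2
    _ = r ^ (2 * g) := by rw [← pow_mul, mul_comm]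
    _ ≤ r ^ e := Nat.pow_le_pow_right (by omega) hge

/-- Under `Big`, a subgroup covering `A/B` is irreducible. -/
theorem Big.irreducible [Finite V] {B : Subgroup A} [B.Normal] (hB : Big V B) {r e : ℕ}
    (hr : r.Prime) (hV : Nat.card V = r ^ e) (H : Subgroup A) (hH : H ⊔ B = ⊤)
    (W : AddSubgroup V) (hW : ∀ g ∈ H, ∀ v ∈ W, g • v ∈ W) : W = ⊥ ∨ W = ⊤ := by
  by_contra hne
  rw [not_or] at hne
  obtain ⟨w, hwe, hw⟩ := (Nat.dvd_prime_pow hr).1 (hV ▸ AddSubgroup.card_addSubgroup_dvd_card W)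
  have hw0 : 0 < w := by
    rcases Nat.eq_zero_or_pos w with rfl | h
    · exact absurd (AddSubgroup.card_eq_one.1 (by simpa using hw)) hne.1
    · exact h
  have hwlt : w < e := by
    rcases hwe.lt_or_eq with h | rfl
    · exact h
    · exact absurd (AddSubgroup.eq_top_of_card_eq W (hw.trans hV.symm)) hne.2
  have h1 := index_dvd_card_sub_one B H hH hB.fpf W hW
  have h2 := index_dvd_card_sub_one B H hH hB.fpf ⊤ (fun _ _ _ _ => AddSubgroup.mem_top _)
  rw [hw] at h1
  rw [AddSubgroup.card_top, hV] at h2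
  have := small_of_dvd hr.two_le hw0 hwlt h1 h2
  have := hB.big
  rw [hV] at this
  omega

/-- The vectors fixed by a set of group elements. -/
def fix (V : Type*) [AddCommGroup V] [DistribMulAction A V] (U : Set A) : AddSubgroup V where
  carrier := {v | ∀ u ∈ U, u • v = v}
  zero_mem' := fun _ _ => smul_zero _
  add_mem' := fun ha hb u hu => by rw [smul_add, ha u hu, hb u hu]
  neg_mem' := fun ha u hu => by rw [smul_neg, ha u hu]

omit [Finite A] in
theorem mem_fix {U : Set A} {v : V} : v ∈ fix V U ↔ ∀ u ∈ U, u • v = v := Iff.rfl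

omit [Finite A] in
theorem nsmul_eq_zero_of_coprime [Finite V] {c : ℕ} (hc : c.Coprime (Nat.card V)) {v : V}
    (h : c • v = 0) : v = 0 := by
  have h1 := addOrderOf_dvd_of_nsmul_eq_zero h
  have h2 : addOrderOf v ∣ Nat.card V := addOrderOf_dvd_natCard v
  exact AddMonoid.addOrderOf_eq_one_iff.1 (Nat.eq_one_of_dvd_coprimes hc h1 h2)

/-- Independence of fixed spaces of subgroups that pairwise generate a fixed-point-free abelian
group. -/
theorem prod_fix_le [Finite V] {ι : Type*} [Fintype ι] (U : Subgroup A)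
    (hU : ∀ x ∈ U, ∀ y ∈ U, x * y = y * x) (hU0 : fix V (U : Set A) = ⊥)
    (F : ι → Subgroup A) (hF : ∀ i, F i ≤ U) (hgen : ∀ i j, i ≠ j → U ≤ F i ⊔ F j)
    (hcop : ∀ i, (Nat.card (F i)).Coprime (Nat.card V)) :
    ∏ i, Nat.card (fix V (F i : Set A)) ≤ Nat.card V := by
  classical
  rw [← Nat.card_pi]
  let φ : (∀ i, fix V (F i : Set A)) →+ V :=
    { toFun := fun f => ∑ i, (f i : V)
      map_zero' := by simp
      map_add' := fun f g => by simp [Finset.sum_add_distrib] }
  refine Nat.card_le_card_of_injective φ ((injective_iff_map_eq_zero φ).2 fun f hf => ?_)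
  funext j
  haveI := Fintype.ofFinite (F j)
  have key : ∀ i, i ≠ j → ∑ u : F j, (u : A) • (f i : V) = 0 := by
    intro i hij
    have hmem : ∑ u : F j, (u : A) • (f i : V) ∈ fix V (U : Set A) := by
      have hst : U ≤ MulAction.stabilizer A (∑ u : F j, (u : A) • (f i : V)) := by
        refine le_trans (hgen i j hij) (sup_le ?_ ?_)
        · intro a ha
          rw [MulAction.mem_stabilizer_iff, Finset.smul_sum]
          refine Finset.sum_congr rfl fun u _ => ?_
          rw [← mul_smul, hU a (hF i ha) u (hF j u.2), mul_smul, (f i).2 a ha]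
        · intro a ha
          rw [MulAction.mem_stabilizer_iff, Finset.smul_sum]
          exact Fintype.sum_equiv (Equiv.mulLeft (⟨a, ha⟩ : F j)) _ _ fun u => by
            simp [mul_smul]
      exact fun g hg => hst hg
    rw [hU0] at hmem
    exact hmem
  have hsum : ∑ u : F j, (u : A) • (φ f) = 0 := by simp [hf]
  have hexp : ∑ u : F j, (u : A) • (φ f) = Nat.card (F j) • (f j : V) := by
    show ∑ u : F j, (u : A) • (∑ i, (f i : V)) = _
    simp only [Finset.smul_sum]
    rw [Finset.sum_comm, Finset.sum_eq_single j (fun i _ hij => key i hij)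
      (fun h => absurd (Finset.mem_univ j) h)]
    rw [Finset.sum_congr rfl (fun (u : F j) _ => (f j).2 (u : A) u.2), Finset.sum_const, Finset.card_univ,
      Nat.card_eq_fintype_card]
  exact Subtype.ext (nsmul_eq_zero_of_coprime (hcop j) (hexp ▸ hsum))

omit [Finite A] in
/-- In `⟨x, z⟩` elementary of order `p ^ 2` with `z` fixed point free, some `x z ^ i` has a fixed
vector on every invariant non-zero subgroup. -/
theorem exists_fixed_pair [Finite V] {p : ℕ} (hp : p.Prime) (hcop : p.Coprime (Nat.card V))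
    {x z : A} (hxp : x ^ p = 1) (hzp : z ^ p = 1) (hc : Commute x z)
    (W : AddSubgroup V) (hzf : ∀ v ∈ W, z • v = v → v = 0) (hWne : W ≠ ⊥)
    (hxW : ∀ v ∈ W, x • v ∈ W) (hzW : ∀ v ∈ W, z • v ∈ W) :
    ∃ i : ℕ, ∃ v ∈ W, v ≠ 0 ∧ (x * z ^ i) • v = v := by
  haveI : Fact p.Prime := ⟨hp⟩
  by_contra hno
  push Not at hno
  obtain ⟨w, hwW, hw0⟩ : ∃ w ∈ W, w ≠ 0 := by
    by_contra h
    push Not at h
    exact hWne (eq_bot_iff.2 fun v hv => h v hv)
  have hpowW : ∀ (g : A), (∀ v ∈ W, g • v ∈ W) → ∀ (n : ℕ), ∀ v ∈ W, g ^ n • v ∈ W := by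
    intro g hg n
    induction n with
    | zero => intro v hv; simpa using hv
    | succ n ih => intro v hv; rw [pow_succ, mul_smul]; exact ih _ (hg v hv)
  have shift : ∀ (g : A), g ^ p = 1 → ∀ v : V,
      g • (∑ m ∈ Finset.range p, g ^ m • v) = ∑ m ∈ Finset.range p, g ^ m • v := by
    intro g hg v
    rw [Finset.smul_sum]
    have h := Finset.sum_range_succ' (fun m => g ^ m • v) p
    rw [Finset.sum_range_succ, hg, pow_zero, add_left_inj] at h
    conv_rhs => rw [h]
    exact Finset.sum_congr rfl fun m _ => by rw [← mul_smul, pow_succ']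
  have h0 : ∀ i : ℕ, ∑ m ∈ Finset.range p, (x * z ^ i) ^ m • w = 0 := by
    intro i
    by_contra hne
    have hgW : ∀ v ∈ W, (x * z ^ i) • v ∈ W := fun v hv => by
      rw [mul_smul]
      exact hxW _ (hpowW z hzW i v hv)
    refine hno i _ (sum_mem fun m _ => hpowW _ hgW m w hwW) hne (shift _ ?_ w)
    rw [(hc.pow_right i).mul_pow, hxp, ← pow_mul, mul_comm, pow_mul, hzp, one_pow, one_mul]
  have h1 : ∑ i ∈ Finset.range p, ∑ m ∈ Finset.range p, (x * z ^ i) ^ m • w = 0 :=
    Finset.sum_eq_zero fun i _ => h0 i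
  rw [Finset.sum_comm, Finset.sum_eq_single 0] at h1
  · simp only [pow_zero, one_smul, Finset.sum_const, Finset.card_range] at h1
    exact hw0 (nsmul_eq_zero_of_coprime hcop h1)
  · intro m hm hm0
    have hmul : ∀ i : ℕ, (x * z ^ i) ^ m • w = x ^ m • ((z ^ m) ^ i • w) := fun i => by
      rw [(hc.pow_right i).mul_pow, ← pow_mul, mul_comm i m, pow_mul, mul_smul]
    rw [Finset.sum_congr rfl fun i _ => hmul i, ← Finset.smul_sum]
    have hfix := shift (z ^ m) (by rw [← pow_mul, mul_comm, pow_mul, hzp, one_pow]) w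
    obtain ⟨s, hs⟩ : ∃ s : ℕ, (z ^ m) ^ s = z := by
      have hcp : Nat.Coprime (orderOf z) m := Nat.Coprime.coprime_dvd_left
        (orderOf_dvd_of_pow_eq_one hzp)
        ((hp.coprime_iff_not_dvd).2 fun hd => by
          have := Nat.le_of_dvd (Nat.pos_of_ne_zero hm0) hd
          have := Finset.mem_range.1 hm
          omega)
      exact exists_pow_eq_self_of_coprime hcp.symm
    have hfix' : z • (∑ i ∈ Finset.range p, (z ^ m) ^ i • w) =
        ∑ i ∈ Finset.range p, (z ^ m) ^ i • w := by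
      have hz : z ∈ MulAction.stabilizer A (∑ i ∈ Finset.range p, (z ^ m) ^ i • w) := by
        have := pow_mem (MulAction.mem_stabilizer_iff.2 hfix) s
        rwa [hs] at this
      exact hz
    rw [hzf _ (sum_mem fun i _ => hpowW _ (hpowW z hzW m) i w hwW) hfix', smul_zero]
  · exact fun h => absurd (Finset.mem_range.2 hp.pos) h

end Cfsg.Agent.DerIdx
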