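import Cfsg.Agent.DerIdx.ExtMain
import Cfsg.Agent.DerIdx.Elementary
import Cfsg.Agent.DerIdx.DihCase
import Cfsg.Agent.PGroup.Basic
import Cfsg.Agent.S0519

/-!
The coprime normal subgroup inside a large fixed-point-free quotient acts semiregularly.
-/

set_option autoImplicit false
set_option linter.style.haveILetI false
set_option linter.unusedSectionVars false

namespace Cfsg.Agent.DerIdx

open Subgroup MulAction
open scoped commutatorElement

/-- A finite cyclic group has at most one subgroup of each order. -/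
theorem cyclic_eq_of_card_eq {C : Type*} [Group C] [IsCyclic C] [Finite C] {S T : Subgroup C}
    (h : Nat.card S = Nat.card T) : S = T := by
  classical
  have := Fintype.ofFinite C
  have key : ∀ D : Subgroup C,
      (D : Set C).toFinset = Finset.univ.filter (fun x : C => x ^ Nat.card D = 1) := by
    intro D
    refine Finset.eq_of_subset_of_card_le (fun x hx => ?_) ?_
    · rw [Set.mem_toFinset] at hx
      simp only [Finset.mem_filter, Finset.mem_univ, true_and]
      exact congrArg Subtype.val (pow_card_eq_one' (x := (⟨x, hx⟩ : D)))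
    · refine (IsCyclic.card_pow_eq_one_le (Nat.card_pos (α := D))).trans (le_of_eq ?_)
      rw [Set.toFinset_card, Nat.card_eq_fintype_card]
      exact Fintype.card_congr (Equiv.refl _)
  apply SetLike.coe_injective
  rw [← Set.toFinset_inj, key S, key T, h]

/-- A finite `p`-group with two subgroups of order `p` either has a normal elementary abelian
subgroup of order `p ^ 2`, or is a `2`-group with a cyclic subgroup of index two. -/
theorem normal_sq_or_cyclic_index_two {P : Type*} [Group P] [Finite P] {p : ℕ} [Fact p.Prime]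
    (hP : IsPGroup p P) (hB : ∃ B : Subgroup P, IsMulCommutative B ∧ ¬ IsCyclic B) :
    (∃ U : Subgroup P, U.Normal ∧ Nat.card U = p ^ 2 ∧ (∀ u ∈ U, u ^ p = 1) ∧
        ∀ a ∈ U, ∀ b ∈ U, Commute a b) ∨
      (p = 2 ∧ ((∀ a b : P, orderOf a = 2 → orderOf b = 2 → a = b) ∨
        ∃ C : Subgroup P, IsCyclic C ∧ C.index = 2)) := by
  by_cases hn : ∀ A : Subgroup P, A.Normal → IsMulCommutative A → IsCyclic A
  · right
    obtain ⟨hp, ⟨n, ⟨f⟩⟩ | ⟨n, hn8, ⟨f⟩⟩ | hqd⟩ := S0519.result p hP hn hB
    · refine ⟨hp, Or.inl fun a b ha hb => f.injective ?_⟩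
      haveI : NeZero n := ⟨fun h0 => by
        subst h0
        haveI : Finite (QuaternionGroup 0) := Finite.of_equiv P f.toEquiv
        haveI : Finite ℤ := Finite.of_injective
          (fun i : ℤ => (QuaternionGroup.a i : QuaternionGroup 0)) fun u v h => by injection h
        exact not_finite ℤ⟩
      haveI : Finite (QuaternionGroup n) := Finite.of_equiv P f.toEquiv
      have key : ∀ g : QuaternionGroup n, orderOf g = 2 → g = QuaternionGroup.a n := by
        intro g hg
        cases g with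
        | xa i => rw [QuaternionGroup.orderOf_xa] at hg; omega
        | a i =>
          have h1 : (QuaternionGroup.a i) ^ 2 = (1 : QuaternionGroup n) := hg ▸ pow_orderOf_eq_one _
          rw [pow_two, QuaternionGroup.a_mul_a, QuaternionGroup.one_def] at h1
          have h2 : i + i = 0 := by injection h1
          have hne : i ≠ 0 := fun h0 => by
            rw [h0, ← QuaternionGroup.one_def, orderOf_one] at hg; omega
          congr 1
          have hv : ((i.val + i.val : ℕ) : ZMod (2 * n)) = 0 := by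
            rw [Nat.cast_add, ZMod.natCast_zmod_val, h2]
          obtain ⟨c, hc⟩ := (ZMod.natCast_eq_zero_iff _ _).1 hv
          have hlt := ZMod.val_lt i
          have hpos : 0 < i.val := Nat.pos_of_ne_zero fun h0 => hne ((ZMod.val_eq_zero i).1 h0)
          have hc1 : c = 1 := by
            rcases c with _ | _ | c
            · omega
            · rfl
            · have := Nat.le_mul_of_pos_right (2 * n) (show 0 < c + 1 + 1 by omega)
              nlinarith
          rw [← ZMod.natCast_zmod_val i]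
          congr 1
          rw [hc1] at hc
          omega
      rw [key (f a) (by rw [MulEquiv.orderOf_eq, ha]), key (f b) (by rw [MulEquiv.orderOf_eq, hb])]
    · refine ⟨hp, Or.inr ⟨zpowers (f.symm (DihedralGroup.r 1)), inferInstance, ?_⟩⟩
      haveI : NeZero n := ⟨by omega⟩
      have h1 := Subgroup.card_mul_index (zpowers (f.symm (DihedralGroup.r (1 : ZMod n))))
      rw [Nat.card_zpowers, MulEquiv.orderOf_eq, DihedralGroup.orderOf_r_one,
        Nat.card_congr f.toEquiv, DihedralGroup.nat_card, mul_comm 2 n] at h1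
      exact Nat.eq_of_mul_eq_mul_left (by omega : 0 < n) h1
    · obtain ⟨n, -, hcard, x, y, hx, -, -⟩ := hqd
      refine ⟨hp, Or.inr ⟨zpowers x, inferInstance, ?_⟩⟩
      have h1 := Subgroup.card_mul_index (zpowers x)
      rw [Nat.card_zpowers, hx, hcard, pow_succ] at h1
      exact Nat.eq_of_mul_eq_mul_left (pow_pos two_pos n) h1
  · left
    push Not at hn
    obtain ⟨A, hAn, hAc, hA⟩ := hn
    haveI := hAn
    let W : Subgroup P :=
      { carrier := {a | a ∈ A ∧ a ^ p = 1}
        one_mem' := ⟨one_mem A, one_pow p⟩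
        mul_mem' := fun {a b} ha hb => ⟨mul_mem ha.1 hb.1, by
          have h : Commute a b := congrArg Subtype.val (hAc.is_comm.comm ⟨a, ha.1⟩ ⟨b, hb.1⟩)
          rw [h.mul_pow, ha.2, hb.2, one_mul]⟩
        inv_mem' := fun {a} ha => ⟨inv_mem ha.1, by rw [inv_pow, ha.2, inv_one]⟩ }
    haveI : W.Normal := ⟨fun a ha g => ⟨hAn.conj_mem a ha.1 g, by
      rw [conj_pow, ha.2, mul_one, mul_inv_cancel]⟩⟩
    have hW : p ^ 2 ≤ Nat.card W := by
      have hc : Nat.card W = Nat.card {x : A // x ^ p = 1} := Nat.card_congr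
        { toFun := fun x => ⟨⟨x.1, x.2.1⟩, Subtype.ext (by rw [Subgroup.coe_pow]; exact x.2.2)⟩
          invFun := fun x => ⟨x.1.1, x.1.2, by rw [← Subgroup.coe_pow, x.2]; rfl⟩
          left_inv := fun _ => rfl
          right_inv := fun _ => rfl }
      obtain ⟨j, hj⟩ := IsPGroup.iff_card.mp (hP.to_subgroup W)
      rw [hj]
      refine Nat.pow_le_pow_right (Fact.out : p.Prime).pos ?_
      by_contra hlt
      refine hA (PGroup.isCyclic_of_card_omega_le (hP.to_subgroup A) hAc ?_)
      rw [← hc, hj]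
      calc p ^ j ≤ p ^ 1 := Nat.pow_le_pow_right (Fact.out : p.Prime).pos (by omega)
        _ = p := pow_one p
    obtain ⟨U, hU, -, hUW, hUc⟩ := PGroup.exists_normal_card_eq hP (k := 2)
      (bot_le : (⊥ : Subgroup P) ≤ W) (by simp [Nat.one_le_pow _ _ (Fact.out : p.Prime).pos]) hW
    exact ⟨U, hU, hUc, fun u hu => (hUW hu).2,
      fun a ha b hb => congrArg Subtype.val (hAc.is_comm.comm ⟨a, (hUW ha).1⟩ ⟨b, (hUW hb).1⟩)⟩

variable {A V : Type*} [Group A] [Finite A] [AddCommGroup V] [Finite V] [DistribMulAction A V]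

/-- The core argument on a `p`-subgroup normalised by a covering subgroup. -/
theorem no_fixed_of_pgroup [FaithfulSMul A V] {B N Q : Subgroup A} [B.Normal] (hB : Big V B)
    {r e p : ℕ} (hr : r.Prime) (hV : Nat.card V = r ^ e) (hp : p.Prime)
    (hcop : p.Coprime (Nat.card V)) (hN : N ⊔ B = ⊤) (hQN : Q ≤ N) (hQB : Q ≤ B)
    (hnorm : ∀ n ∈ N, ∀ g ∈ Q, n * g * n⁻¹ ∈ Q) (hQ : IsPGroup p Q) :
    ∀ x ∈ Q, x ^ p = 1 → ∀ v : V, v ≠ 0 → x • v = v → x = 1 := by
  classical
  haveI : Fact p.Prime := ⟨hp⟩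
  intro x hxQ hxp v hv0 hxv
  by_contra hx1
  have hV1 : 1 < Nat.card V := Finite.one_lt_card_iff_nontrivial.2 ⟨⟨v, 0, hv0⟩⟩
  have hconj : ∀ n ∈ N, ∀ g ∈ Q, n⁻¹ * g * n ∈ Q := fun n hn g hg => by
    simpa using hnorm n⁻¹ (inv_mem hn) g hg
  -- the central elements of order `p`
  let Z : Subgroup A :=
    { carrier := {g | g ∈ Q ∧ g ^ p = 1 ∧ ∀ f ∈ Q, Commute g f}
      one_mem' := ⟨Q.one_mem, one_pow p, fun f _ => Commute.one_left f⟩
      mul_mem' := fun {a b} ha hb => ⟨mul_mem ha.1 hb.1, by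
        rw [(ha.2.2 b hb.1).mul_pow, ha.2.1, hb.2.1, one_mul],
        fun f hf => (ha.2.2 f hf).mul_left (hb.2.2 f hf)⟩
      inv_mem' := fun {a} ha => ⟨inv_mem ha.1, by rw [inv_pow, ha.2.1, inv_one],
        fun f hf => (ha.2.2 f hf).inv_left⟩ }
  have hZinv : ∀ n ∈ N, ∀ g ∈ Z, n * g * n⁻¹ ∈ Z := fun n hn g hg =>
    ⟨hnorm n hn g hg.1, by rw [conj_pow, hg.2.1, mul_one, mul_inv_cancel], fun f hf => by
      show n * g * n⁻¹ * f = f * (n * g * n⁻¹)
      have := (hg.2.2 _ (hconj n hn f hf)).eq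
      calc n * g * n⁻¹ * f = n * (g * (n⁻¹ * f * n)) * n⁻¹ := by group
        _ = n * (n⁻¹ * f * n * g) * n⁻¹ := by rw [this]
        _ = f * (n * g * n⁻¹) := by group⟩
  have hZQ : Z ≤ Q := fun g hg => hg.1
  obtain ⟨hZc, hZf⟩ := card_le_of_invariant hB hr hV hp hcop hN (hZQ.trans hQN) (hZQ.trans hQB)
    hZinv (fun g hg => hg.2.1) (fun a ha b hb => ha.2.2 b hb.1)
  -- a generator `z`
  haveI : Nontrivial Q := ⟨⟨x, hxQ⟩, 1, fun he => hx1 (congrArg Subtype.val he)⟩
  haveI := hQ.center_nontrivial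
  obtain ⟨⟨z', hz'c⟩, hz'⟩ := exists_prime_orderOf_dvd_card' (G := center Q) p (by
    obtain ⟨i, hi⟩ := (hQ.to_subgroup (center Q)).exists_card_eq
    rw [hi]
    refine dvd_pow_self p ?_
    rintro rfl
    exact absurd hi (by simpa using (Finite.one_lt_card (α := center Q)).ne'))
  rw [Subgroup.orderOf_mk] at hz'
  set z : A := (z' : A) with hz
  have hzord : orderOf z = p := by rw [hz, Subgroup.orderOf_coe, hz']
  have hzp : z ^ p = 1 := hzord ▸ pow_orderOf_eq_one z
  have hzZ : z ∈ Z := ⟨z'.2, hzp, fun f hf =>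
    (congrArg Subtype.val (Subgroup.mem_center_iff.1 hz'c ⟨f, hf⟩)).symm⟩
  have hzpow : zpowers z = Z := Subgroup.eq_of_le_of_card_ge (zpowers_le.2 hzZ)
    (by rw [Nat.card_zpowers, hzord]; exact hZc)
  have hzf : ∀ w : V, z • w = w → w = 0 := by
    intro w hw
    have hne : Z ≠ ⊥ := fun hb => hp.one_lt.ne' (by
      rw [← hzord, Subgroup.mem_bot.1 (hb ▸ hzZ : z ∈ (⊥ : Subgroup A)), orderOf_one])
    refine (AddSubgroup.eq_bot_iff_forall _).1 (hZf hne) w ?_
    intro g hg
    exact (zpowers_le.2 (show z ∈ stabilizer A w from hw)) (hzpow ▸ hg : g ∈ zpowers z)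
  have hxz : x ∉ zpowers z := by
    intro hxm
    obtain ⟨i, rfl⟩ := mem_zpowers_iff.1 hxm
    have : zpowers z ≤ zpowers (z ^ i) := by
      refine (Subgroup.eq_of_le_of_card_ge (zpowers_le.2 (zpow_mem (mem_zpowers z) i)) ?_).ge
      rw [Nat.card_zpowers, Nat.card_zpowers, hzord, orderOf_eq_prime hxp hx1]
    exact hv0 (hzf v (zpowers_le.2 (show z ^ i ∈ stabilizer A v from hxv) (this (mem_zpowers z))))
  -- the class two subgroup
  set q : ℕ := if p = 2 then 4 else p with hq
  have hchoose : p ∣ q.choose 2 := by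
    rcases eq_or_ne p 2 with h | h
    · subst h; rw [hq, if_pos rfl]; decide
    · rw [hq, if_neg h]
      exact hp.dvd_choose_self two_ne_zero (by have := hp.two_le; omega)
  have hpq : p ∣ q := by
    rcases eq_or_ne p 2 with h | h
    · subst h; rw [hq, if_pos rfl]; norm_num
    · rw [hq, if_neg h]
  have hwz : ∀ w ∈ zpowers z, w ^ p = 1 := fun w hw => by
    obtain ⟨i, rfl⟩ := mem_zpowers_iff.1 hw
    rw [← zpow_natCast, ← zpow_mul, mul_comm, zpow_mul, zpow_natCast, hzp, one_zpow]
  have hwc : ∀ w ∈ zpowers z, ∀ f ∈ Q, Commute w f := fun w hw f hf => by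
    rw [hzpow] at hw; exact hw.2.2 f hf
  have powmul : ∀ a ∈ Q, ∀ b ∈ Q, ⁅b, a⁆ ∈ zpowers z → ∀ m : ℕ,
      (a * b) ^ m = a ^ m * b ^ m * ⁅b, a⁆ ^ m.choose 2 := by
    intro a ha b hb hc m
    have hca := hwc _ hc a ha
    have hcb := hwc _ hc b hb
    have hba : ∀ i : ℕ, b ^ i * a = a * b ^ i * ⁅b, a⁆ ^ i := by
      intro i
      induction i with
      | zero => simp
      | succ i ih =>
        have e1 : b * a = a * b * ⁅b, a⁆ := by
          calc b * a = ⁅b, a⁆ * (a * b) := by rw [commutatorElement_def]; group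
            _ = a * b * ⁅b, a⁆ := (hca.mul_right hcb).eq
        calc b ^ (i + 1) * a = b ^ i * (b * a) := by rw [pow_succ, mul_assoc]
          _ = (b ^ i * a) * b * ⁅b, a⁆ := by rw [e1]; group
          _ = a * b ^ i * (⁅b, a⁆ ^ i * b) * ⁅b, a⁆ := by rw [ih]; group
          _ = a * b ^ (i + 1) * ⁅b, a⁆ ^ (i + 1) := by
            rw [(hcb.pow_left i).eq, pow_succ b, pow_succ (⁅b, a⁆)]; group
    induction m with
    | zero => simp
    | succ m ih =>
      have h2 : (m + 1).choose 2 = m + m.choose 2 := by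
        rw [Nat.choose_succ_succ, Nat.choose_one_right]
      calc (a * b) ^ (m + 1) = a ^ m * b ^ m * (⁅b, a⁆ ^ m.choose 2 * a) * b := by
            rw [pow_succ, ih]; group
        _ = a ^ m * (b ^ m * a) * (⁅b, a⁆ ^ m.choose 2 * b) := by
            rw [(hca.pow_left _).eq]; group
        _ = a ^ m * (a * b ^ m * ⁅b, a⁆ ^ m) * (b * ⁅b, a⁆ ^ m.choose 2) := by
            rw [hba, (hcb.pow_left _).eq]
        _ = a ^ m * a * b ^ m * (⁅b, a⁆ ^ m * b) * ⁅b, a⁆ ^ m.choose 2 := by group
        _ = a ^ m * a * (b ^ m * b) * (⁅b, a⁆ ^ m * ⁅b, a⁆ ^ m.choose 2) := by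
            rw [(hcb.pow_left _).eq]; group
        _ = _ := by rw [← pow_succ, ← pow_succ, ← pow_add, h2]
  let E : Subgroup A :=
    { carrier := {g | g ∈ Q ∧ g ^ q = 1 ∧ ∀ f ∈ Q, ⁅g, f⁆ ∈ zpowers z}
      one_mem' := ⟨Q.one_mem, one_pow q, fun f _ => by simp⟩
      mul_mem' := fun {a b} ha hb => ⟨mul_mem ha.1 hb.1, by
        rw [powmul a ha.1 b hb.1 (hb.2.2 a ha.1), ha.2.1, hb.2.1, one_mul, one_mul]
        obtain ⟨c, hc⟩ := hchoose
        rw [hc, pow_mul, hwz _ (hb.2.2 a ha.1), one_pow],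
        fun f hf => by
          have e : ⁅a * b, f⁆ = a * ⁅b, f⁆ * a⁻¹ * ⁅a, f⁆ := by
            simp only [commutatorElement_def]; group
          rw [e, show a * ⁅b, f⁆ * a⁻¹ = ⁅b, f⁆ by
            rw [← (hwc _ (hb.2.2 f hf) a ha.1).eq]; group]
          exact mul_mem (hb.2.2 f hf) (ha.2.2 f hf)⟩
      inv_mem' := fun {a} ha => ⟨inv_mem ha.1, by rw [inv_pow, ha.2.1, inv_one], fun f hf => by
        have e : ⁅a⁻¹, f⁆ = a⁻¹ * ⁅a, f⁆⁻¹ * a := by simp only [commutatorElement_def]; group
        rw [e, show a⁻¹ * ⁅a, f⁆⁻¹ * a = ⁅a, f⁆⁻¹ by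
          rw [mul_assoc, (hwc _ (inv_mem (ha.2.2 f hf)) a ha.1).eq]; group]
        exact inv_mem (ha.2.2 f hf)⟩ }
  have hEQ : E ≤ Q := fun g hg => hg.1
  have hEinv : ∀ n ∈ N, ∀ g ∈ E, n * g * n⁻¹ ∈ E := fun n hn g hg =>
    ⟨hnorm n hn g hg.1, by rw [conj_pow, hg.2.1, mul_one, mul_inv_cancel], fun f hf => by
      have h1 := hg.2.2 _ (hconj n hn f hf)
      rw [hzpow] at h1 ⊢
      have := hZinv n hn _ h1
      have e : n * ⁅g, n⁻¹ * f * n⁆ * n⁻¹ = ⁅n * g * n⁻¹, f⁆ := by
        simp only [commutatorElement_def]; group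
      rwa [e] at this⟩
  have hzE : z ∈ E := ⟨z'.2, orderOf_dvd_iff_pow_eq_one.1 (hzord ▸ hpq), fun f hf => by
    rw [commutatorElement_eq_one_iff_commute.2 (hzZ.2.2 f hf)]; exact one_mem _⟩
  let Z₁ : Subgroup A :=
    { carrier := {g | g ∈ E ∧ g ^ p = 1 ∧ ∀ f ∈ E, Commute g f}
      one_mem' := ⟨E.one_mem, one_pow p, fun f _ => Commute.one_left f⟩
      mul_mem' := fun {a b} ha hb => ⟨mul_mem ha.1 hb.1, by
        rw [(ha.2.2 b hb.1).mul_pow, ha.2.1, hb.2.1, one_mul],
        fun f hf => (ha.2.2 f hf).mul_left (hb.2.2 f hf)⟩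
      inv_mem' := fun {a} ha => ⟨inv_mem ha.1, by rw [inv_pow, ha.2.1, inv_one],
        fun f hf => (ha.2.2 f hf).inv_left⟩ }
  have hZ₁E : Z₁ ≤ E := fun g hg => hg.1
  have hZ₁inv : ∀ n ∈ N, ∀ g ∈ Z₁, n * g * n⁻¹ ∈ Z₁ := fun n hn g hg =>
    ⟨hEinv n hn g hg.1, by rw [conj_pow, hg.2.1, mul_one, mul_inv_cancel], fun f hf => by
      show n * g * n⁻¹ * f = f * (n * g * n⁻¹)
      have hf' : n⁻¹ * f * n ∈ E := by simpa using hEinv n⁻¹ (inv_mem hn) f hf
      have := (hg.2.2 _ hf').eq
      calc n * g * n⁻¹ * f = n * (g * (n⁻¹ * f * n)) * n⁻¹ := by group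
        _ = n * (n⁻¹ * f * n * g) * n⁻¹ := by rw [this]
        _ = f * (n * g * n⁻¹) := by group⟩
  obtain ⟨hZ₁c, -⟩ := card_le_of_invariant hB hr hV hp hcop hN
    ((hZ₁E.trans hEQ).trans hQN) ((hZ₁E.trans hEQ).trans hQB)
    hZ₁inv (fun g hg => hg.2.1) (fun a ha b hb => ha.2.2 b hb.1)
  have hz₁ : zpowers z = Z₁ := Subgroup.eq_of_le_of_card_ge
    (zpowers_le.2 ⟨hzE, hzp, fun f hf => hzZ.2.2 f hf.1⟩)
    (by rw [Nat.card_zpowers, hzord]; exact hZ₁c)
  have hext : Ext V p E z :=
    { prime := hp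
      cop := hcop
      mem := hzE
      zord := hzord
      zf := hzf
      zc := fun g hg => hzZ.2.2 g hg.1
      comm := fun g hg f hf => hg.2.2 f hf.1
      pow := fun g hg => by
        rcases eq_or_ne p 2 with h | h
        · rw [hzpow]
          refine ⟨pow_mem hg.1 p, ?_, fun f hf => ?_⟩
          · have h4 : g ^ q = 1 := hg.2.1
            rw [hq, if_pos h] at h4
            rw [← pow_mul, h]
            exact h4
          · subst h
            have hc : ⁅f, g⁆ ∈ zpowers z := by
              rw [← commutatorElement_inv]; exact inv_mem (hg.2.2 f hf)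
            have hsq : ⁅f, g⁆ * ⁅f, g⁆ = 1 := by rw [← pow_two]; exact hwz _ hc
            show g ^ 2 * f = f * g ^ 2
            have e : f * g = ⁅f, g⁆ * (g * f) := by rw [commutatorElement_def]; group
            symm
            calc f * g ^ 2 = (f * g) * g := by rw [pow_two, mul_assoc]
              _ = ⁅f, g⁆ * g * (f * g) := by rw [e]; group
              _ = g * (⁅f, g⁆ * ⁅f, g⁆) * (g * f) := by
                rw [(hwc _ hc g hg.1).eq, e]; group
              _ = g ^ 2 * f := by rw [hsq, mul_one, pow_two, mul_assoc]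
        · have h4 : g ^ q = 1 := hg.2.1
          rw [hq, if_neg h] at h4
          rw [h4]; exact one_mem _
      odd := fun h g hg => by
        have h4 : g ^ q = 1 := hg.2.1
        rwa [hq, if_neg h] at h4
      cent := fun g hg hgp hgc => by rw [hz₁]; exact ⟨hg, hgp, hgc⟩ }
  have hfree := hext.fixed_vector_free hB hV1 hN (hEQ.trans hQN) (hEQ.trans hQB) hEinv
  -- a noncyclic abelian subgroup of `Q`
  set xQ : Q := ⟨x, hxQ⟩
  set zQ : Q := z'
  have hBex : ∃ C : Subgroup Q, IsMulCommutative C ∧ ¬ IsCyclic C := by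
    refine ⟨closure {xQ, zQ}, Subgroup.isMulCommutative_closure (fun a ha b hb => ?_), fun hcyc => ?_⟩
    · rcases ha with rfl | rfl <;> rcases hb with rfl | rfl
      · rfl
      · exact Subgroup.mem_center_iff.1 hz'c _
      · exact (Subgroup.mem_center_iff.1 hz'c _).symm
      · rfl
    · haveI := hcyc
      have hzc' : zQ ∈ closure {xQ, zQ} := subset_closure (by simp)
      have hxc' : xQ ∈ closure {xQ, zQ} := subset_closure (by simp)
      set a : ↥(closure {xQ, zQ}) := ⟨xQ, hxc'⟩
      set b : ↥(closure {xQ, zQ}) := ⟨zQ, hzc'⟩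
      have ha : orderOf a = p := by
        rw [Subgroup.orderOf_mk]
        exact orderOf_eq_prime (Subtype.ext hxp) fun he => hx1 (congrArg Subtype.val he)
      have hb : orderOf b = p := by rw [Subgroup.orderOf_mk]; exact hz'
      have hab : a ∈ zpowers b := by
        have h1 : zpowers a = zpowers b := cyclic_eq_of_card_eq
          (by rw [Nat.card_zpowers, Nat.card_zpowers, ha, hb])
        exact h1 ▸ mem_zpowers a
      obtain ⟨i, hi⟩ := mem_zpowers_iff.1 hab
      refine hxz (mem_zpowers_iff.2 ⟨i, ?_⟩)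
      have := congrArg (fun g : ↥(closure {xQ, zQ}) => ((g : Q) : A)) hi
      simpa [a, b, xQ, zQ, hz] using this
  rcases normal_sq_or_cyclic_index_two hQ hBex with ⟨U, hUn, hUc, hUp, hUcomm⟩ | ⟨hp2, hh⟩
  · haveI := hUn
    have hzU : zQ ∈ U := by
      have hne : U ≠ ⊥ := fun hb => by
        rw [hb, Subgroup.card_bot] at hUc
        exact (Nat.one_lt_pow two_ne_zero hp.one_lt).ne hUc
      have hi : U ⊓ center Q ≠ ⊥ := PGroup.inf_center_ne_bot hQ U hne
      obtain ⟨w, hw, hw1⟩ := (Subgroup.bot_or_exists_ne_one _).resolve_left hi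
      have hwZ : (w : A) ∈ zpowers z := by
        rw [hzpow]
        exact ⟨w.2, congrArg Subtype.val (hUp w hw.1),
          fun f hf => (congrArg Subtype.val (Subgroup.mem_center_iff.1 hw.2 ⟨f, hf⟩)).symm⟩
      have h1 : zQ ∈ zpowers w := by
        have he : zpowers (w : A) = zpowers z := by
          refine Subgroup.eq_of_le_of_card_ge (zpowers_le.2 hwZ) ?_
          rw [Nat.card_zpowers, Nat.card_zpowers, hzord, orderOf_eq_prime
            (congrArg Subtype.val (hUp w hw.1)) fun he => hw1 (Subtype.ext he)]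
        obtain ⟨i, hi⟩ := mem_zpowers_iff.1 (he ▸ mem_zpowers z : z ∈ zpowers (w : A))
        exact mem_zpowers_iff.2 ⟨i, Subtype.ext (by simpa [zQ, hz] using hi)⟩
      exact zpowers_le.2 hw.1 h1
    set K := ⁅U, (⊤ : Subgroup Q)⁆ with hK
    have hUne : U ≠ ⊥ := fun hb => by
      rw [hb, Subgroup.card_bot] at hUc
      exact (Nat.one_lt_pow two_ne_zero hp.one_lt).ne hUc
    have hKlt : K < U := PGroup.commutator_top_lt hQ hUne
    haveI : K.Normal := Subgroup.commutator_normal U ⊤
    have hKz : ∀ g ∈ K, (g : A) ∈ zpowers z := by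
      obtain ⟨t, ht, htc⟩ := (Nat.dvd_prime_pow hp).1 (hUc ▸ Subgroup.card_dvd_of_le hKlt.le)
      have htlt : t < 2 := by
        by_contra hge
        refine hKlt.ne (Subgroup.eq_of_le_of_card_ge hKlt.le ?_)
        rw [htc, hUc]
        exact Nat.pow_le_pow_right hp.pos (by omega)
      intro g hg
      rw [hzpow]
      refine ⟨g.2, congrArg Subtype.val (hUp g (hKlt.le hg)), ?_⟩
      interval_cases t
      · rw [pow_zero, Subgroup.card_eq_one] at htc
        rw [htc, Subgroup.mem_bot] at hg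
        subst hg
        exact fun f _ => Commute.one_left f
      · rw [pow_one] at htc
        have hc := PGroup.le_center_of_card_eq hQ htc hg
        exact fun f hf => (congrArg Subtype.val (Subgroup.mem_center_iff.1 hc ⟨f, hf⟩)).symm
    have hUE : ∀ u ∈ U, (u : A) ∈ E := fun u hu => ⟨u.2, by
      obtain ⟨c, hc⟩ := hpq
      rw [hc, pow_mul, ← Subgroup.coe_pow, hUp u hu]; simp, fun f hf => by
      have := hKz _ (Subgroup.commutator_mem_commutator hu (Subgroup.mem_top (⟨f, hf⟩ : Q)))
      exact this⟩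
    have hsub : U ≤ (zpowers z).subgroupOf Q := fun u hu =>
      hfree u (hUE u hu) (congrArg Subtype.val (hUp u hu))
    have h1 : Nat.card U ≤ p := by
      refine le_trans (Subgroup.card_le_of_le hsub) ?_
      rw [Nat.card_congr (subgroupOfEquivOfLe (zpowers_le.2 hzZ.1)).toEquiv, Nat.card_zpowers, hzord]
    rw [hUc] at h1
    exact absurd h1 (not_le.2 (by
      calc p = p ^ 1 := (pow_one p).symm
        _ < p ^ 2 := Nat.pow_lt_pow_right hp.one_lt (by omega)))
  · subst hp2
    rcases hh with huniq | ⟨C, hCcyc, hCidx⟩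
    · refine hxz ?_
      have := huniq xQ zQ (orderOf_eq_prime (Subtype.ext hxp) fun he => hx1 (congrArg Subtype.val he)) hz'
      have hxe : x = z := congrArg Subtype.val this
      rw [hxe]; exact mem_zpowers z
    · haveI : C.Normal := Subgroup.normal_of_index_eq_two hCidx
      haveI := hCcyc
      have hCinv : ∀ g ∈ C, orderOf g = 2 → g = zQ := by
        have hCne : C ≠ ⊥ := fun hb => by
          subst hb
          rw [Subgroup.index_bot] at hCidx
          have hpair : Nat.card ({xQ, zQ, 1} : Set Q) ≤ 2 :=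
            hCidx ▸ Nat.card_le_card_of_injective Subtype.val Subtype.val_injective
          rw [Nat.card_coe_set_eq, Set.ncard_insert_of_notMem, Set.ncard_pair] at hpair
          · omega
          · intro he
            exact hp.one_lt.ne' (by rw [← hz', he, orderOf_one])
          · intro hm
            rcases hm with he | he
            · exact hxz (by rw [show x = z from congrArg Subtype.val he]; exact mem_zpowers z)
            · exact hx1 (congrArg Subtype.val he)
        intro g hg hg2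
        have hgc : g ∈ center Q := by
          have h1 : (zpowers g).Normal := by
            refine ⟨fun a ha f => ?_⟩
            have haC : a ∈ C := zpowers_le.2 hg ha
            have h2 : zpowers (⟨g, hg⟩ : C) = zpowers (⟨f * g * f⁻¹, Normal.conj_mem ‹_› g hg f⟩ : C) :=
              cyclic_eq_of_card_eq (by
                simp only [Nat.card_zpowers, Subgroup.orderOf_mk]
                exact (MulEquiv.orderOf_eq (MulAut.conj f) g).symm)
            obtain ⟨i, rfl⟩ := mem_zpowers_iff.1 ha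
            obtain ⟨m, hm⟩ := mem_zpowers_iff.1 (h2.symm ▸ mem_zpowers _ :
              (⟨f * g * f⁻¹, Normal.conj_mem ‹_› g hg f⟩ : C) ∈ zpowers (⟨g, hg⟩ : C))
            have hm' : g ^ m = f * g * f⁻¹ := by simpa using congrArg Subtype.val hm
            rw [← conj_zpow, ← hm']
            exact zpow_mem (zpow_mem (mem_zpowers g) m) i
          haveI := h1
          exact PGroup.le_center_of_card_eq hQ (by rw [Nat.card_zpowers, hg2]) (mem_zpowers g)
        have hgz : (g : A) ∈ zpowers z := by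
          rw [hzpow]
          refine ⟨g.2, by rw [← Subgroup.coe_pow, ← hg2, pow_orderOf_eq_one]; rfl, fun f hf => ?_⟩
          exact (congrArg Subtype.val (Subgroup.mem_center_iff.1 hgc ⟨f, hf⟩)).symm
        obtain ⟨i, hi, hig⟩ := Finset.mem_image.1
          ((isOfFinOrder_of_finite z).mem_zpowers_iff_mem_range_orderOf.1 hgz)
        rw [hzord, Finset.mem_range] at hi
        interval_cases i
        · refine absurd hg2 ?_
          rw [show g = 1 from Subtype.ext (by simpa using hig.symm), orderOf_one]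
          omega
        · exact Subtype.ext (by simpa [zQ, hz] using hig.symm)
      exact dihedral_case hB hcop hQ hN hQN hQB hnorm hzZ.1
        (fun he => hp.one_lt.ne' (by rw [← hzord, he, orderOf_one])) hzf hzp hzZ.2.2 C hCidx
        (fun g hg hg2 => congrArg Subtype.val (hCinv g hg hg2)) hxQ hxp hx1 hxz hv0 hxv

/-- Under `Big`, a normal subgroup of order coprime to `|V|` contained in `B` acts semiregularly on
non-zero vectors. -/
theorem semiregular [FaithfulSMul A V] {B L : Subgroup A} [B.Normal] [L.Normal] (hB : Big V B)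
    (hLB : L ≤ B) {r e : ℕ} (hr : r.Prime) (hV : Nat.card V = r ^ e)
    (hcop : (Nat.card L).Coprime r) :
    ∀ x ∈ L, ∀ v : V, v ≠ 0 → x • v = v → x = 1 := by
  intro x hxL v hv0 hxv
  by_contra hx1
  obtain ⟨p, hp, hpd⟩ := Nat.exists_prime_and_dvd (mt orderOf_eq_one_iff.1 hx1)
  haveI : Fact p.Prime := ⟨hp⟩
  set y := x ^ (orderOf x / p) with hy
  have hyL : y ∈ L := pow_mem hxL _
  have hyo : orderOf y = p := orderOf_pow_orderOf_div (orderOf_pos x).ne' hpd
  have hyp : y ^ p = 1 := hyo ▸ pow_orderOf_eq_one y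
  have hy1 : y ≠ 1 := fun he => hp.one_lt.ne' (by rw [← hyo, he, orderOf_one])
  have hyv : y • v = v := pow_mem (show x ∈ stabilizer A v from hxv) _
  have hpV : p.Coprime (Nat.card V) := by
    rw [hV]
    refine Nat.Coprime.pow_right _ (Nat.Coprime.coprime_dvd_left ?_ hcop)
    have := orderOf_dvd_natCard (⟨y, hyL⟩ : L)
    rwa [Subgroup.orderOf_mk, hyo] at this
  have hpg : IsPGroup p (zpowers (⟨y, hyL⟩ : L)) := IsPGroup.of_card (n := 1) (by
    rw [Nat.card_zpowers, Subgroup.orderOf_mk, hyo, pow_one])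
  obtain ⟨P, hP⟩ := hpg.exists_le_sylow
  set Q : Subgroup A := (P : Subgroup L).map L.subtype with hQ
  have hN : normalizer (Q : Set A) ⊔ B = ⊤ := by
    refine eq_top_iff.2 (le_trans ?_ (sup_le_sup_left hLB _))
    rw [hQ]
    exact (Sylow.normalizer_sup_eq_top P).ge
  have hQpg : IsPGroup p Q := P.2.map _
  have hQL : Q ≤ L := Subgroup.map_subtype_le _
  have hyQ : y ∈ Q := ⟨⟨y, hyL⟩, hP (mem_zpowers _), rfl⟩
  exact hy1 (no_fixed_of_pgroup hB hr hV hp hpV hN Subgroup.le_normalizer (hQL.trans hLB)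
    (fun n hn g hg => (Subgroup.mem_normalizer_iff.1 hn g).1 hg) hQpg y hyQ hyp v hv0 hyv)

end Cfsg.Agent.DerIdx
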